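import Cfsg.Agent.H414.LieShape

/-!
# The families of groups of Lie type in characteristic `r` with their orders (helper426)

* `Fam`, `Fam.facs` : the families and the factors of the orders;
* `Fam.Is r f S fam` : `S` belongs to the family `fam` over the field with `r ^ f` elements;
* `Sh r c f d N l` : `d c = (r ^ f) ^ N ∏ factors`;
* `exists_fam` : `IsLieTypeChar r S` gives a family with `Fam.Is` and `Sh`;
* `Fac.ex f x` : the exponent `e` of a factor; `Sh.ex_of_dvd` : `u ∣ |S|` gives a factor such that the order of `r`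
  modulo `u` divides its exponent; `Sh.exists_of_ex` : for an exponent `e ≥ 3` there is a prime `u ∣ |S|`, `r` of order
  `e` modulo `u` (except `r = 2`, `e = 6`).
-/

set_option autoImplicit false

namespace Cfsg.Agent.H426.LieFam

open Cfsg Cfsg.Agent.H414.LieShape

/-- the families of groups of Lie type -/
inductive Fam
  | psl (n : ℕ) | psp (m : ℕ) | psu (n : ℕ) | oodd (m : ℕ) | oplus (m : ℕ) | ominus (m : ℕ)
  | g2 | f4 | e6 | e7 | e8 | te6 | td4 | sz | tf4 | ree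

/-- the factors of the order -/
def Fam.facs : Fam → List Fac
  | .psl n => (List.range (n - 1)).map fun i => Fac.sub (i + 2)
  | .psp m => (List.range m).map fun i => Fac.sub (2 * (i + 1))
  | .psu n => (List.range (n - 1)).map fun i => if Even (i + 1) then Fac.add (i + 2) else Fac.sub (i + 2)
  | .oodd m => (List.range m).map fun i => Fac.sub (2 * (i + 1))
  | .oplus m => Fac.sub m :: (List.range (m - 1)).map fun i => Fac.sub (2 * (i + 1))
  | .ominus m => Fac.add m :: (List.range (m - 1)).map fun i => Fac.sub (2 * (i + 1))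
  | .g2 => [2, 6].map Fac.sub
  | .f4 => [2, 6, 8, 12].map Fac.sub
  | .e6 => [2, 5, 6, 8, 9, 12].map Fac.sub
  | .e7 => [2, 6, 8, 10, 12, 14, 18].map Fac.sub
  | .e8 => [2, 8, 12, 14, 18, 20, 24, 30].map Fac.sub
  | .te6 => [Fac.sub 2, Fac.add 5, Fac.sub 6, Fac.sub 8, Fac.add 9, Fac.sub 12]
  | .td4 => [Fac.sub 2, Fac.sub 6, Fac.tri]
  | .sz => [Fac.sub 1, Fac.add 2]
  | .tf4 => [Fac.sub 1, Fac.add 3, Fac.sub 4, Fac.add 6]
  | .ree => [Fac.sub 1, Fac.add 3]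

universe u

/-- `S` belongs to the family over the field with `r ^ f` elements -/
def Fam.Is (r f : ℕ) (S : Type u) [Group S] : Fam → Prop
  | .psl n => 2 ≤ n ∧ (n = 2 → 4 ≤ r ^ f) ∧ ∃ (F : Type) (_ : Field F) (_ : Fintype F) (_ : CharP F r),
      Fintype.card F = r ^ f ∧ Nonempty (S ≃* Matrix.ProjectiveSpecialLinearGroup (Fin n) F)
  | .psp m => 2 ≤ m ∧ (m = 2 → 3 ≤ r ^ f) ∧ ∃ (F : Type) (_ : Field F) (_ : Fintype F) (_ : CharP F r),
      Fintype.card F = r ^ f ∧ Nonempty (S ≃* PSp m F)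
  | .psu n => 3 ≤ n ∧ ¬ (n = 3 ∧ r ^ f = 2) ∧ ∃ (F : Type) (_ : Field F) (_ : Fintype F) (_ : CharP F r),
      Fintype.card F = (r ^ f) ^ 2 ∧ Nonempty (S ≃* PSU n F (r ^ f))
  | .oodd m => 3 ≤ m ∧ Odd (r ^ f) ∧ ∃ (F : Type) (_ : Field F) (_ : Fintype F) (_ : CharP F r),
      Fintype.card F = r ^ f ∧ Nonempty (S ≃* POmega F (quadFormOdd m F))
  | .oplus m => 4 ≤ m ∧ ∃ (F : Type) (_ : Field F) (_ : Fintype F) (_ : CharP F r),
      Fintype.card F = r ^ f ∧ Nonempty (S ≃* POmega F (quadFormPlus m F))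
  | .ominus m => 4 ≤ m ∧ ∃ (F : Type) (_ : Field F) (_ : Fintype F) (_ : CharP F r) (a b : F),
      Fintype.card F = r ^ f ∧ (∀ z₁ z₂ : F, z₁ ^ 2 + a * z₁ * z₂ + b * z₂ ^ 2 = 0 → z₁ = 0 ∧ z₂ = 0) ∧
      Nonempty (S ≃* POmega F (quadFormMinus (m - 1) F a b))
  | .g2 => 3 ≤ r ^ f ∧ ∃ (F : Type) (_ : Field F) (_ : Fintype F) (_ : CharP F r),
      Fintype.card F = r ^ f ∧ Nonempty (S ≃* ↥(Lie.chevG2.group F))
  | .f4 => ∃ (F : Type) (_ : Field F) (_ : Fintype F) (_ : CharP F r),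
      Fintype.card F = r ^ f ∧ Nonempty (S ≃* ↥(Lie.chevF4.group F))
  | .e6 => ∃ (F : Type) (_ : Field F) (_ : Fintype F) (_ : CharP F r),
      Fintype.card F = r ^ f ∧ Nonempty (S ≃* ↥(Lie.chevE6.group F))
  | .e7 => ∃ (F : Type) (_ : Field F) (_ : Fintype F) (_ : CharP F r),
      Fintype.card F = r ^ f ∧ Nonempty (S ≃* ↥(Lie.chevE7.group F))
  | .e8 => ∃ (F : Type) (_ : Field F) (_ : Fintype F) (_ : CharP F r),
      Fintype.card F = r ^ f ∧ Nonempty (S ≃* ↥(Lie.chevE8.group F))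
  | .te6 => ∃ (K : Type) (_ : Field K) (_ : Fintype K) (_ : CharP K r),
      Fintype.card K = (r ^ f) ^ 2 ∧ Nonempty (S ≃* ↥(Lie.twistedE6 K (r ^ f)))
  | .td4 => ∃ (K : Type) (_ : Field K) (_ : Fintype K) (_ : CharP K r),
      Fintype.card K = (r ^ f) ^ 3 ∧ Nonempty (S ≃* ↥(Lie.twistedD4 K (r ^ f)))
  | .sz => r = 2 ∧ ∃ m : ℕ, 1 ≤ m ∧ f = 2 * m + 1 ∧ ∃ (F : Type) (_ : Field F) (_ : Fintype F),
      Fintype.card F = 2 ^ (2 * m + 1) ∧ Nonempty (S ≃* ↥(Lie.Sz F (2 ^ (m + 1))))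
  | .tf4 => r = 2 ∧ ∃ m : ℕ, 1 ≤ m ∧ f = 2 * m + 1 ∧ ∃ (K : Type) (_ : Field K) (_ : Fintype K),
      Fintype.card K = 2 ^ (2 * m + 1) ∧ Nonempty (S ≃* ↥(Lie.twistedF4 K (2 ^ m)))
  | .ree => r = 3 ∧ ∃ m : ℕ, 1 ≤ m ∧ f = 2 * m + 1 ∧ ∃ (K : Type) (_ : Field K) (_ : Fintype K),
      Fintype.card K = 3 ^ (2 * m + 1) ∧ Nonempty (S ≃* ↥(Lie.twistedG2 K (3 ^ m)))

/-- the shape of the order `c` -/
structure Sh (r c f d N : ℕ) (l : List Fac) : Prop where
  f_pos : 1 ≤ f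
  eq : d * c = (r ^ f) ^ N * (l.map (Fac.val (r ^ f))).prod
  den : ∀ v : ℕ, v.Prime → 5 ≤ v → v ∣ d → v ∣ c
  chr : r ∣ c

section

variable {F : Type} [Field F] [Fintype F] {r : ℕ}

theorem sh_psl {f : ℕ} (hf : 1 ≤ f) (hcard : Fintype.card F = r ^ f) {n : ℕ} (hn : 2 ≤ n) (hr : r.Prime) :
    ∃ d N, Sh r (Nat.card (Matrix.ProjectiveSpecialLinearGroup (Fin n) F)) f d N (Fam.psl n).facs := by
  set q := Fintype.card F with hq
  have hq1 : 1 < q := Fintype.one_lt_card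
  have h := Cfsg.Agent.S0243.result (F := F) rfl n hn
  rw [← hq, Fin.prod_univ_eq_prod_range (fun i => q ^ n - q ^ i) n, prod_gl] at h
  obtain ⟨m, rfl⟩ : ∃ m, n = m + 1 := ⟨n - 1, by omega⟩
  rw [Finset.prod_range_succ', zero_add, pow_one] at h
  have hq0 : 0 < q - 1 := by omega
  have h1 : Nat.gcd (m + 1) (q - 1) * Nat.card (Matrix.ProjectiveSpecialLinearGroup (Fin (m + 1)) F) =
      q ^ ((m + 1) * (m + 1 - 1) / 2) * ∏ i ∈ Finset.range m, (q ^ (i + 1 + 1) - 1) := by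
    apply Nat.eq_of_mul_eq_mul_left hq0
    calc (q - 1) * (Nat.gcd (m + 1) (q - 1) * Nat.card (Matrix.ProjectiveSpecialLinearGroup (Fin (m + 1)) F)) =
        Nat.gcd (m + 1) (q - 1) * ((q - 1) * Nat.card (Matrix.ProjectiveSpecialLinearGroup (Fin (m + 1)) F)) := by ring
      _ = _ := by rw [h]; ring
  have hN : 1 ≤ (m + 1) * (m + 1 - 1) / 2 := by
    have h2 : 2 * 1 ≤ (m + 1) * (m + 1 - 1) := Nat.mul_le_mul (by omega) (by omega)
    omega
  refine ⟨Nat.gcd (m + 1) (q - 1), (m + 1) * (m + 1 - 1) / 2, hf, ?_, ?_, chr_of' hr hf hcard h1 hN (by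
      have h3 := cop_gcd_sub (m := m + 1) (k := 1) (f := f) hr le_rfl
      rwa [pow_one, ← hcard] at h3)⟩
  · rw [← hcard]
    change _ = _ * ((((List.range m).map fun i => Fac.sub (i + 2))).map (Fac.val q)).prod
    rw [prod_map_range]
    exact h1
  · intro v hv hv5 hvd
    have hvn : v ≤ m + 1 := Nat.le_of_dvd (by omega) (hvd.trans (Nat.gcd_dvd_left _ _))
    have hvq : v ∣ q - 1 := hvd.trans (Nat.gcd_dvd_right _ _)
    obtain ⟨k, rfl⟩ : ∃ k, m = k + 1 + 1 := ⟨m - 2, by omega⟩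
    rw [Finset.prod_range_succ', Finset.prod_range_succ'] at h1
    have hsub : ∀ i, q - 1 ∣ q ^ i - 1 := fun i => by
      have := Nat.sub_dvd_pow_sub_pow q 1 i
      rwa [one_pow] at this
    refine dvd_of_split (X := q ^ (0 + 1 + 1) - 1) (Y := q ^ ((k + 1 + 1 + 1) * (k + 1 + 1 + 1 - 1) / 2) *
      (∏ i ∈ Finset.range k, (q ^ (i + 1 + 1 + 1 + 1) - 1)) * (q ^ (0 + 1 + 1 + 1) - 1)) (Nat.gcd_pos_of_pos_right _ hq0)
      (h1.trans ?_) ?_ ?_
    · ring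
    · exact (Nat.gcd_dvd_right _ _).trans (hsub _)
    · exact (hvq.trans (hsub _)).mul_left _

theorem sh_psp {f : ℕ} (hf : 1 ≤ f) (hcard : Fintype.card F = r ^ f) {m : ℕ} (hm : 2 ≤ m) (hr : r.Prime) :
    ∃ d N, Sh r (Nat.card (PSp m F)) f d N (Fam.psp m).facs := by
  have h1 := Cfsg.Agent.S0245.result (F := F) rfl m
  have h2 := Cfsg.Agent.S0246.result (F := F) rfl m (by omega)
  have h3 := Subgroup.card_eq_card_quotient_mul_card_subgroup
    (Subgroup.center (Matrix.symplecticGroup (Fin m) F))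
  rw [h1, h2] at h3
  refine ⟨Nat.gcd 2 (Fintype.card F - 1), m ^ 2, hf, ?_,
    den_small (Nat.gcd_dvd_left _ _) (by norm_num) (by norm_num),
    chr_of' hr hf hcard ((mul_comm _ _).trans h3.symm) (Nat.one_le_pow _ _ (by omega)) (by
      have h4 := cop_gcd_sub (m := 2) (k := 1) (f := f) hr le_rfl
      rwa [pow_one, ← hcard] at h4)⟩
  rw [← hcard]
  change _ = _ * ((((List.range m).map fun i => Fac.sub (2 * (i + 1)))).map (Fac.val _)).prod
  rw [prod_map_range, mul_comm (Nat.gcd _ _)]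
  exact h3.symm

theorem sh_psu {f : ℕ} (hf : 1 ≤ f) (hF : Fintype.card F = (r ^ f) ^ 2) {n : ℕ} (hn : 3 ≤ n) (hr : r.Prime) :
    ∃ d N, Sh r (Nat.card (PSU n F (r ^ f))) f d N (Fam.psu n).facs := by
  obtain ⟨q, hqf⟩ : ∃ q, q = r ^ f := ⟨_, rfl⟩
  rw [← hqf] at hF ⊢
  have h := Cfsg.Agent.S0280.result hF n (by omega)
  obtain ⟨m, rfl⟩ : ∃ m, n = m + 1 := ⟨n - 1, by omega⟩
  rw [Finset.prod_range_succ', if_pos Even.zero, zero_add, pow_one] at h
  have h1 : Nat.gcd (m + 1) (q + 1) * Nat.card (PSU (m + 1) F q) =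
      q ^ ((m + 1) * (m + 1 - 1) / 2) * ∏ i ∈ Finset.range m,
        (if Even (i + 1) then q ^ (i + 1 + 1) + 1 else q ^ (i + 1 + 1) - 1) := by
    have hq0 : 0 < q + 1 := Nat.succ_pos q
    apply Nat.eq_of_mul_eq_mul_left hq0
    calc (q + 1) * (Nat.gcd (m + 1) (q + 1) * Nat.card (PSU (m + 1) F q)) =
        Nat.gcd (m + 1) (q + 1) * ((q + 1) * Nat.card (PSU (m + 1) F q)) := by ring
      _ = _ := by rw [h]; ring
  have hN : 1 ≤ (m + 1) * (m + 1 - 1) / 2 := by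
    have h2 : 2 * 1 ≤ (m + 1) * (m + 1 - 1) := Nat.mul_le_mul (by omega) (by omega)
    omega
  refine ⟨Nat.gcd (m + 1) (q + 1), (m + 1) * (m + 1 - 1) / 2, hf, ?_, ?_,
    chr_of' hr hf hqf h1 hN (by
      have h3 := cop_gcd_add (m := m + 1) (k := 1) (f := f) (r := r) le_rfl
      rwa [pow_one, ← hqf] at h3)⟩
  · rw [← hqf]
    change _ = _ * ((((List.range m).map fun i => if Even (i + 1) then Fac.add (i + 2) else Fac.sub (i + 2))).map
      (Fac.val q)).prod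
    rw [prod_map_range, h1]
    congr 1
    apply Finset.prod_congr rfl
    intro i _
    by_cases hi : Even (i + 1)
    · rw [if_pos hi, if_pos hi]; rfl
    · rw [if_neg hi, if_neg hi]; rfl
  · intro v hv hv5 hvd
    have hvn : v ≤ m + 1 := Nat.le_of_dvd (by omega) (hvd.trans (Nat.gcd_dvd_left _ _))
    have hvq : v ∣ q + 1 := hvd.trans (Nat.gcd_dvd_right _ _)
    obtain ⟨k, rfl⟩ : ∃ k, m = k + 1 + 1 := ⟨m - 2, by omega⟩
    rw [Finset.prod_range_succ', Finset.prod_range_succ', if_neg (show ¬ Even (0 + 1) by decide),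
      if_pos (show Even (0 + 1 + 1) by decide)] at h1
    have h3 : q + 1 ∣ q ^ (0 + 1 + 1 + 1) + 1 := by
      refine ⟨q ^ 2 - q + 1, ?_⟩
      have h4 : q ≤ q ^ 2 := Nat.le_self_pow (by norm_num) q
      obtain ⟨t, ht⟩ := Nat.exists_eq_add_of_le h4
      rw [ht, Nat.add_sub_cancel_left]
      have h5 : q ^ (0 + 1 + 1 + 1) = q * q ^ 2 := by ring
      rw [h5, ht]
      nlinarith
    have h4 : q + 1 ∣ q ^ (0 + 1 + 1) - 1 := by
      rw [show q ^ (0 + 1 + 1) - 1 = (q + 1) * (q - 1) by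
        rw [← Nat.sq_sub_sq, one_pow]]
      exact Dvd.intro _ rfl
    refine dvd_of_split (X := q ^ (0 + 1 + 1) - 1) (Y := q ^ ((k + 1 + 1 + 1) * (k + 1 + 1 + 1 - 1) / 2) *
      (∏ i ∈ Finset.range k, (if Even (i + 1 + 1 + 1) then q ^ (i + 1 + 1 + 1 + 1) + 1 else
        q ^ (i + 1 + 1 + 1 + 1) - 1)) * (q ^ (0 + 1 + 1 + 1) + 1)) (Nat.gcd_pos_of_pos_right _ (Nat.succ_pos q))
      (h1.trans ?_) ?_ ?_
    · ring
    · exact (Nat.gcd_dvd_right _ _).trans h4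
    · exact (hvq.trans h3).mul_left _

theorem sh_oodd {f : ℕ} (hf : 1 ≤ f) (hcard : Fintype.card F = r ^ f) {m : ℕ} (hm : 3 ≤ m) (ho : Odd (Fintype.card F))
    (hr : r.Prime) : ∃ d N, Sh r (Nat.card (POmega F (quadFormOdd m F))) f d N (Fam.oodd m).facs := by
  have h1 := Cfsg.Agent.S0292.result (F := F) rfl ho m hm
  refine ⟨2, m ^ 2, hf, ?_, den_small (dvd_refl 2) (by norm_num) (by norm_num),
    chr_of' hr hf hcard h1 (Nat.one_le_pow _ _ (by omega)) ((Nat.coprime_two_left).2 ho)⟩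
  rw [← hcard]
  change _ = _ * ((((List.range m).map fun i => Fac.sub (2 * (i + 1)))).map (Fac.val _)).prod
  rw [prod_map_range]
  exact h1

theorem sh_oplus {f : ℕ} (hf : 1 ≤ f) (hcard : Fintype.card F = r ^ f) {m : ℕ} (hm : 4 ≤ m) (hr : r.Prime) :
    ∃ d N, Sh r (Nat.card (POmega F (quadFormPlus m F))) f d N (Fam.oplus m).facs := by
  have h1 := Cfsg.Agent.S0293.result (F := F) rfl m hm
  refine ⟨Nat.gcd 4 (Fintype.card F ^ m - 1), m * (m - 1), hf, ?_,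
    den_small (Nat.gcd_dvd_left _ _) (by norm_num) (by norm_num),
    chr_of' hr hf hcard (h1.trans (mul_assoc _ _ _)) (Nat.mul_pos (by omega) (by omega)) (by
      rw [hcard]
      exact cop_gcd_sub hr (by omega))⟩
  rw [← hcard]
  change _ = _ * ((Fac.sub m :: (List.range (m - 1)).map fun i => Fac.sub (2 * (i + 1))).map (Fac.val _)).prod
  rw [List.map_cons, List.prod_cons, prod_map_range, ← mul_assoc]
  exact h1

theorem sh_ominus {f : ℕ} (hf : 1 ≤ f) (hcard : Fintype.card F = r ^ f) {m : ℕ} (hm : 4 ≤ m) {a b : F}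
    (hab : ∀ z₁ z₂ : F, z₁ ^ 2 + a * z₁ * z₂ + b * z₂ ^ 2 = 0 → z₁ = 0 ∧ z₂ = 0) (hr : r.Prime) :
    ∃ d N, Sh r (Nat.card (POmega F (quadFormMinus (m - 1) F a b))) f d N (Fam.ominus m).facs := by
  have h1 := Cfsg.Agent.S0294.result (F := F) rfl m hm a b hab
  refine ⟨Nat.gcd 4 (Fintype.card F ^ m + 1), m * (m - 1), hf, ?_,
    den_small (Nat.gcd_dvd_left _ _) (by norm_num) (by norm_num),
    chr_of' hr hf hcard (h1.trans (mul_assoc _ _ _)) (Nat.mul_pos (by omega) (by omega)) (by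
      rw [hcard]
      exact cop_gcd_add (by omega))⟩
  rw [← hcard]
  change _ = _ * ((Fac.add m :: (List.range (m - 1)).map fun i => Fac.sub (2 * (i + 1))).map (Fac.val _)).prod
  rw [List.map_cons, List.prod_cons, prod_map_range, ← mul_assoc]
  exact h1

omit [Fintype F] [Field F] in
/-- a family given by a list of factors -/
theorem sh_list {c f d N : ℕ} {l : List Fac} (hr : r.Prime) (hN : 1 ≤ N) (hcop : d.Coprime (r ^ f)) (hf : 1 ≤ f)
    (hd : d ∣ 12) (hd5 : d < 5)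
    (heq : d * c = (r ^ f) ^ N * (l.map (Fac.val (r ^ f))).prod) : Sh r c f d N l := by
  refine ⟨hf, heq, ?_, chr_of hr hf hN hcop heq⟩
  intro v _ hv5 hvd
  exfalso
  have hd0 : 0 < d := Nat.pos_of_dvd_of_pos hd (by norm_num)
  have := Nat.le_of_dvd hd0 hvd
  omega

end

/-- **Every group of Lie type belongs to a family.** -/
theorem exists_fam {r : ℕ} (hr : r.Prime) {S : Type u} [Group S] (h : IsLieTypeChar r S) :
    ∃ (fam : Fam) (f d N : ℕ), fam.Is r f S ∧ Sh r (Nat.card S) f d N fam.facs := by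
  rcases h with ⟨F, _, _, _, n, hn, hn2, ⟨e⟩⟩ | ⟨F, _, _, _, m, hm, hm2, ⟨e⟩⟩ | ⟨F, _, _, _, n, q, hF, hn, hn3, ⟨e⟩⟩ |
    ⟨F, _, _, _, m, hm, ho, ⟨e⟩⟩ | ⟨F, _, _, _, m, hm, ⟨e⟩⟩ | ⟨F, _, _, _, m, a, b, hm, hab, ⟨e⟩⟩ | h | h |
    ⟨hr2, F, _, _, m, hm, hF, ⟨e⟩⟩ | ⟨hr2, F, _, _, m, hm, hF, ⟨e⟩⟩ | ⟨hr3, F, _, _, m, hm, hF, ⟨e⟩⟩
  · obtain ⟨f, hf, hcard⟩ := exists_card F r
    obtain ⟨d, N, h⟩ := sh_psl hf hcard hn hr
    exact ⟨.psl n, f, d, N, ⟨hn, by rwa [← hcard], F, _, _, ‹_›, hcard, ⟨e⟩⟩, by rwa [Nat.card_congr e.toEquiv]⟩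
  · obtain ⟨f, hf, hcard⟩ := exists_card F r
    obtain ⟨d, N, h⟩ := sh_psp hf hcard hm hr
    exact ⟨.psp m, f, d, N, ⟨hm, by rwa [← hcard], F, _, _, ‹_›, hcard, ⟨e⟩⟩, by rwa [Nat.card_congr e.toEquiv]⟩
  · obtain ⟨k, hk, hcard⟩ := exists_card F r
    obtain ⟨f, hf, rfl⟩ := exists_pow_eq hr two_pos (hcard.symm.trans hF) hk
    obtain ⟨d, N, h⟩ := sh_psu hf hF hn hr
    exact ⟨.psu n, f, d, N, ⟨hn, hn3, F, _, _, ‹_›, hF, ⟨e⟩⟩, by rwa [Nat.card_congr e.toEquiv]⟩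
  · obtain ⟨f, hf, hcard⟩ := exists_card F r
    obtain ⟨d, N, h⟩ := sh_oodd hf hcard hm ho hr
    exact ⟨.oodd m, f, d, N, ⟨hm, by rwa [← hcard], F, _, _, ‹_›, hcard, ⟨e⟩⟩, by rwa [Nat.card_congr e.toEquiv]⟩
  · obtain ⟨f, hf, hcard⟩ := exists_card F r
    obtain ⟨d, N, h⟩ := sh_oplus hf hcard hm hr
    exact ⟨.oplus m, f, d, N, ⟨hm, F, _, _, ‹_›, hcard, ⟨e⟩⟩, by rwa [Nat.card_congr e.toEquiv]⟩
  · obtain ⟨f, hf, hcard⟩ := exists_card F r
    obtain ⟨d, N, h⟩ := sh_ominus hf hcard hm hab hr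
    exact ⟨.ominus m, f, d, N, ⟨hm, F, _, _, ‹_›, a, b, hcard, hab, ⟨e⟩⟩, by rwa [Nat.card_congr e.toEquiv]⟩
  · obtain ⟨F, _, _, _, h⟩ := h
    obtain ⟨f, hf, hcard⟩ := exists_card F r
    have hg3 : Nat.gcd 3 (r ^ f - 1) ∣ 12 := (Nat.gcd_dvd_left _ _).trans (by norm_num)
    have hg3' : Nat.gcd 3 (r ^ f - 1) < 5 := lt_of_le_of_lt (Nat.le_of_dvd (by norm_num) (Nat.gcd_dvd_left _ _)) (by norm_num)
    have hg2 : Nat.gcd 2 (r ^ f - 1) ∣ 12 := (Nat.gcd_dvd_left _ _).trans (by norm_num)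
    have hg2' : Nat.gcd 2 (r ^ f - 1) < 5 := lt_of_le_of_lt (Nat.le_of_dvd (by norm_num) (Nat.gcd_dvd_left _ _)) (by norm_num)
    rcases h with ⟨hF3, ⟨e⟩⟩ | ⟨⟨e⟩⟩ | ⟨⟨e⟩⟩ | ⟨⟨e⟩⟩ | ⟨⟨e⟩⟩
    · refine ⟨.g2, f, 1, 6, ⟨by rwa [← hcard], F, _, _, ‹_›, hcard, ⟨e⟩⟩, ?_⟩
      rw [Nat.card_congr e.toEquiv]
      refine sh_list hr (by norm_num) (Nat.coprime_one_left _) hf (by norm_num) (by norm_num) ?_
      rw [one_mul, Cfsg.Agent.S1059.result hcard]
      simp only [Fam.facs, List.map_cons, List.map_nil, List.prod_cons, List.prod_nil, Fac.val]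
      ring
    · refine ⟨.f4, f, 1, 24, ⟨F, _, _, ‹_›, hcard, ⟨e⟩⟩, ?_⟩
      rw [Nat.card_congr e.toEquiv]
      refine sh_list hr (by norm_num) (Nat.coprime_one_left _) hf (by norm_num) (by norm_num) ?_
      rw [one_mul, Cfsg.Agent.S1062.result hcard]
      simp only [Fam.facs, List.map_cons, List.map_nil, List.prod_cons, List.prod_nil, Fac.val]
      ring
    · refine ⟨.e6, f, Nat.gcd 3 (r ^ f - 1), 36, ⟨F, _, _, ‹_›, hcard, ⟨e⟩⟩, ?_⟩
      rw [Nat.card_congr e.toEquiv]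
      refine sh_list hr (by norm_num) (by
        have := cop_gcd_sub (m := 3) (k := 1) (f := f) hr le_rfl
        rwa [pow_one] at this) hf hg3 hg3' ?_
      rw [Cfsg.Agent.S1063.result hcard]
      simp only [Fam.facs, List.map_cons, List.map_nil, List.prod_cons, List.prod_nil, Fac.val]
      ring
    · refine ⟨.e7, f, Nat.gcd 2 (r ^ f - 1), 63, ⟨F, _, _, ‹_›, hcard, ⟨e⟩⟩, ?_⟩
      rw [Nat.card_congr e.toEquiv]
      refine sh_list hr (by norm_num) (by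
        have := cop_gcd_sub (m := 2) (k := 1) (f := f) hr le_rfl
        rwa [pow_one] at this) hf hg2 hg2' ?_
      rw [Cfsg.Agent.S1064.result hcard]
      simp only [Fam.facs, List.map_cons, List.map_nil, List.prod_cons, List.prod_nil, Fac.val]
      ring
    · refine ⟨.e8, f, 1, 120, ⟨F, _, _, ‹_›, hcard, ⟨e⟩⟩, ?_⟩
      rw [Nat.card_congr e.toEquiv]
      refine sh_list hr (by norm_num) (Nat.coprime_one_left _) hf (by norm_num) (by norm_num) ?_
      rw [one_mul, Cfsg.Agent.S1065.result hcard]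
      simp only [Fam.facs, List.map_cons, List.map_nil, List.prod_cons, List.prod_nil, Fac.val]
      ring
  · obtain ⟨F, _, _, _, q, hq, h⟩ := h
    obtain ⟨k, hk, hcard⟩ := exists_card F r
    rcases h with ⟨hF, ⟨e⟩⟩ | ⟨hF, ⟨e⟩⟩
    · obtain ⟨f, hf, rfl⟩ := exists_pow_eq hr two_pos (hcard.symm.trans hF) hk
      refine ⟨.te6, f, Nat.gcd 3 (r ^ f + 1), 36, ⟨F, _, _, ‹_›, hF, ⟨e⟩⟩, ?_⟩
      rw [Nat.card_congr e.toEquiv]
      refine sh_list hr (by norm_num) (by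
          have := cop_gcd_add (m := 3) (k := 1) (f := f) (r := r) le_rfl
          rwa [pow_one] at this) hf
        ((Nat.gcd_dvd_left 3 (r ^ f + 1)).trans (by norm_num))
        (lt_of_le_of_lt (Nat.le_of_dvd (by norm_num) (Nat.gcd_dvd_left _ _)) (by norm_num)) ?_
      rw [Cfsg.Agent.S1066.result hq hF]
      simp only [Fam.facs, List.map_cons, List.map_nil, List.prod_cons, List.prod_nil, Fac.val]
      ring
    · obtain ⟨f, hf, rfl⟩ := exists_pow_eq hr three_pos (hcard.symm.trans hF) hk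
      refine ⟨.td4, f, 1, 12, ⟨F, _, _, ‹_›, hF, ⟨e⟩⟩, ?_⟩
      rw [Nat.card_congr e.toEquiv]
      refine sh_list hr (by norm_num) (Nat.coprime_one_left _) hf (by norm_num) (by norm_num) ?_
      rw [one_mul, Cfsg.Agent.S1067.result hq hF]
      simp only [Fam.facs, List.map_cons, List.map_nil, List.prod_cons, List.prod_nil, Fac.val]
      ring
  · subst hr2
    refine ⟨.sz, 2 * m + 1, 1, 2, ⟨rfl, m, hm, rfl, F, _, _, hF, ⟨e⟩⟩, ?_⟩
    rw [Nat.card_congr e.toEquiv, (Cfsg.Agent.S1163.result hm hF).1]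
    refine sh_list (f := 2 * m + 1) hr (by norm_num) (Nat.coprime_one_left _) (by omega) (by norm_num)
      (by norm_num) ?_
    simp only [Fam.facs, List.map_cons, List.map_nil, List.prod_cons, List.prod_nil, Fac.val, pow_one]
    ring
  · subst hr2
    refine ⟨.tf4, 2 * m + 1, 1, 12, ⟨rfl, m, hm, rfl, F, _, _, hF, ⟨e⟩⟩, ?_⟩
    rw [Nat.card_congr e.toEquiv, Cfsg.Agent.S1068.result hF]
    refine sh_list (f := 2 * m + 1) hr (by norm_num) (Nat.coprime_one_left _) (by omega) (by norm_num)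
      (by norm_num) ?_
    simp only [Fam.facs, List.map_cons, List.map_nil, List.prod_cons, List.prod_nil, Fac.val, pow_one]
    ring
  · subst hr3
    refine ⟨.ree, 2 * m + 1, 1, 3, ⟨rfl, m, hm, rfl, F, _, _, hF, ⟨e⟩⟩, ?_⟩
    rw [Nat.card_congr e.toEquiv, Cfsg.Agent.S1069.result hF]
    refine sh_list (f := 2 * m + 1) hr (by norm_num) (Nat.coprime_one_left _) (by omega) (by norm_num)
      (by norm_num) ?_
    simp only [Fam.facs, List.map_cons, List.map_nil, List.prod_cons, List.prod_nil, Fac.val, pow_one]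
    ring

/-! ### primes dividing the order -/

variable {r c f d N : ℕ} {l : List Fac}

/-- a prime dividing a factor divides the order -/
theorem Sh.dvd_of_fac (h : Sh r c f d N l) {v : ℕ} (hv : v.Prime) (hv5 : 5 ≤ v) {x : Fac} (hx : x ∈ l)
    (hd : v ∣ x.val (r ^ f)) : v ∣ c := by
  have h1 : v ∣ d * c := by
    rw [h.eq]
    exact ((hd.trans (List.dvd_prod (List.mem_map_of_mem hx)))).mul_left _
  rcases hv.dvd_mul.1 h1 with h2 | h2
  · exact h.den v hv hv5 h2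
  · exact h2

/-- a prime other than `r` dividing the order divides a factor -/
theorem Sh.exists_fac (h : Sh r c f d N l) (hr : r.Prime) {u : ℕ} (hu : u.Prime) (hur : u ≠ r) (hd : u ∣ c) :
    ∃ x ∈ l, u ∣ x.val (r ^ f) := by
  have h1 : u ∣ (r ^ f) ^ N * (l.map (Fac.val (r ^ f))).prod := by
    rw [← h.eq]
    exact hd.mul_left d
  rcases hu.dvd_mul.1 h1 with h2 | h2
  · exfalso
    rw [← pow_mul] at h2
    exact hur ((Nat.prime_dvd_prime_iff_eq hu hr).1 (hu.dvd_of_dvd_pow h2))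
  · obtain ⟨y, hy, hyd⟩ := (hu.prime.dvd_prod_iff).1 h2
    rw [List.mem_map] at hy
    obtain ⟨x, hx, rfl⟩ := hy
    exact ⟨x, hx, hyd⟩

end Cfsg.Agent.H426.LieFam
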