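import Cfsg.Agent.H426.LieFam
import Cfsg.Agent.H436.Ppd

/-!
# Exponents of the primes dividing the order of a group of Lie type (helper426)

`Prim r e u` (helper436) : `r` has order `e` modulo the prime `u`.

* `ex f x` : the exponent of the factor `x` over the field with `r ^ f` elements;
* `Prim.ex_dvd` : `u ∣ x.val (r ^ f)` implies `e ∣ ex f x`;
* `exists_of_ex` : a prime `u ∣ x.val (r ^ f)` with `Prim r (ex f x) u`;
* `Sh.exists_ex`, `Sh.all_ex` : the same for the order of the group.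
-/

set_option autoImplicit false

namespace Cfsg.Agent.H426.LieFam

open Cfsg Cfsg.Agent.H414.LieShape Cfsg.Agent.H436

/-- the exponent of a factor -/
def ex (f : ℕ) : Fac → ℕ
  | .sub i => f * i
  | .add i => 2 * (f * i)
  | .tri => 12 * f

variable {r e u c f d N : ℕ} {l : List Fac}

theorem prim_of_prime (hu : u.Prime) (h : ¬ u ∣ r) (hr : 1 ≤ r) : Prim r (orderOf ((r : ℕ) : ZMod u)) u := by
  have := Fact.mk hu
  refine ⟨hu, fun m => ?_, h⟩
  rw [orderOf_dvd_iff_pow_eq_one, ← Nat.cast_pow]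
  have h1 : 1 ≤ r ^ m := Nat.one_le_pow _ _ hr
  rw [← ZMod.natCast_eq_zero_iff, Nat.cast_sub h1, Nat.cast_one, sub_eq_zero]

theorem exists_prim_of_prime (hu : u.Prime) (h : ¬ u ∣ r) (hr : 1 ≤ r) : ∃ e, Prim r e u :=
  ⟨_, prim_of_prime hu h hr⟩

theorem Prim_pos (h : Prim r e u) : 0 < e := by
  rcases Nat.eq_zero_or_pos e with h0 | h0
  · exfalso
    subst h0
    have h1 : ((r : ℕ) : ZMod u) ^ (u - 1) = 1 := by
      have := Fact.mk h.prime
      apply ZMod.pow_card_sub_one_eq_one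
      rw [Ne, ZMod.natCast_eq_zero_iff]
      exact h.not_dvd
    have h2 : u ∣ r ^ (u - 1) - 1 := by
      have h3 : 1 ≤ r ^ (u - 1) := Nat.one_le_pow _ _ (Nat.pos_of_ne_zero (by rintro rfl; exact h.not_dvd (dvd_zero _)))
      rw [← ZMod.natCast_eq_zero_iff, Nat.cast_sub h3, Nat.cast_one, Nat.cast_pow, h1, sub_self]
    have h4 := (h.dvd_iff _).1 h2
    have := h.prime.two_le
    rw [zero_dvd_iff] at h4
    omega
  · exact h0

/-- `e ∣ u - 1` -/
theorem Prim_dvd_pred (h : Prim r e u) : e ∣ u - 1 := by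
  have := Fact.mk h.prime
  have h1 : ((r : ℕ) : ZMod u) ^ (u - 1) = 1 := by
    apply ZMod.pow_card_sub_one_eq_one
    rw [Ne, ZMod.natCast_eq_zero_iff]
    exact h.not_dvd
  rw [← h.dvd_iff]
  have h3 : 1 ≤ r ^ (u - 1) := Nat.one_le_pow _ _ (Nat.pos_of_ne_zero (by rintro rfl; exact h.not_dvd (dvd_zero _)))
  rw [← ZMod.natCast_eq_zero_iff, Nat.cast_sub h3, Nat.cast_one, Nat.cast_pow, h1, sub_self]

theorem Prim_lt (h : Prim r e u) : e < u := by
  have h1 := Prim_dvd_pred h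
  have h2 := h.prime.two_le
  have := Nat.le_of_dvd (by omega) h1
  omega

theorem Prim_five_le (h : Prim r e u) (he : 3 ≤ e) : 5 ≤ u := by
  have h1 := Prim_lt h
  rcases (show u = 4 ∨ 5 ≤ u by omega) with h4 | h5
  · exfalso
    rw [h4] at h
    exact absurd h.prime (by norm_num)
  · exact h5

theorem dvd_sq_of_add {q n : ℕ} (h : u ∣ q ^ n + 1) : u ∣ q ^ (2 * n) - 1 := by
  have h1 : q ^ (2 * n) - 1 = (q ^ n + 1) * (q ^ n - 1) := by
    rw [← Nat.sq_sub_sq, one_pow, ← pow_mul, mul_comm n 2]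
  rw [h1]
  exact h.mul_right _

theorem tri_mul {q : ℕ} (hq : 1 ≤ q) : (q ^ 4 - 1) * (q ^ 8 + q ^ 4 + 1) = q ^ 12 - 1 := by
  have h4 : 1 ≤ q ^ 4 := Nat.one_le_pow _ _ hq
  have h12 : 1 ≤ q ^ 12 := Nat.one_le_pow _ _ hq
  zify [h4, h12]
  ring

/-- a prime dividing a factor has an order dividing the exponent -/
theorem Prim_ex_dvd (h : Prim r e u) (hr : 1 ≤ r) {x : Fac} (hx : u ∣ x.val (r ^ f)) : e ∣ ex f x := by
  cases x with
  | sub i =>
    change u ∣ (r ^ f) ^ i - 1 at hx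
    rw [← pow_mul] at hx
    exact (h.dvd_iff _).1 hx
  | add i =>
    change u ∣ (r ^ f) ^ i + 1 at hx
    have h1 := dvd_sq_of_add hx
    rw [← pow_mul, show f * (2 * i) = 2 * (f * i) by ring] at h1
    exact (h.dvd_iff _).1 h1
  | tri =>
    change u ∣ (r ^ f) ^ 8 + (r ^ f) ^ 4 + 1 at hx
    have h1 : u ∣ (r ^ f) ^ 12 - 1 := by
      rw [← tri_mul (Nat.one_le_pow _ _ hr)]
      exact hx.mul_left _
    rw [← pow_mul, mul_comm f 12] at h1
    exact (h.dvd_iff _).1 h1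

theorem Prim_dvd_val (hf : 1 ≤ f) (hr : 1 ≤ r) {x : Fac} (hx3 : 3 ≤ ex f x) (h : Prim r (ex f x) u) :
    u ∣ x.val (r ^ f) := by
  cases x with
  | sub i =>
    change u ∣ (r ^ f) ^ i - 1
    rw [← pow_mul]
    exact (h.dvd_iff _).2 (dvd_refl _)
  | add i =>
    change u ∣ (r ^ f) ^ i + 1
    rw [← pow_mul]
    refine h.dvd_add (dvd_refl _) fun h1 => ?_
    change 2 * (f * i) ∣ f * i at h1
    change 3 ≤ 2 * (f * i) at hx3
    have := Nat.le_of_dvd (by omega) h1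
    omega
  | tri =>
    change u ∣ (r ^ f) ^ 8 + (r ^ f) ^ 4 + 1
    have h1 : u ∣ (r ^ f) ^ 12 - 1 := by
      rw [← pow_mul]
      exact (h.dvd_iff _).2 (by rw [mul_comm f 12]; exact dvd_refl _)
    rw [← tri_mul (Nat.one_le_pow _ _ hr)] at h1
    rcases h.prime.dvd_mul.1 h1 with h2 | h2
    · exfalso
      rw [← pow_mul] at h2
      have h3 := (h.dvd_iff _).1 h2
      change 12 * f ∣ f * 4 at h3
      have := Nat.le_of_dvd (by omega) h3
      omega
    · exact h2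

theorem exists_of_ex (hf : 1 ≤ f) (hr : 2 ≤ r) {x : Fac} (hx3 : 3 ≤ ex f x) (h6 : ¬ (r = 2 ∧ ex f x = 6)) :
    ∃ u, Prim r (ex f x) u ∧ u ∣ x.val (r ^ f) := by
  obtain ⟨u, hu⟩ := exists_prim hr hx3 h6
  exact ⟨u, hu, Prim_dvd_val hf (by omega) hx3 hu⟩

/-- a prime divisor of the order -/
theorem Sh.exists_ex (h : Sh r c f d N l) (hr : r.Prime) (hu : Prim r e u) (hd : u ∣ c) :
    ∃ x ∈ l, u ∣ x.val (r ^ f) ∧ e ∣ ex f x := by
  obtain ⟨x, hx, hxd⟩ := h.exists_fac hr hu.prime (by rintro rfl; exact hu.not_dvd (dvd_refl _)) hd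
  exact ⟨x, hx, hxd, Prim_ex_dvd hu hr.pos hxd⟩

/-- all exponents -/
theorem Sh.all_ex (h : Sh r c f d N l) (hr : r.Prime) (P : ℕ → Prop)
    (hP : ∀ e u, 3 ≤ e → Prim r e u → u ∣ c → P e) {x : Fac} (hx : x ∈ l) (hx3 : 3 ≤ ex f x)
    (h6 : ¬ (r = 2 ∧ ex f x = 6)) : P (ex f x) := by
  obtain ⟨u, hu, hud⟩ := exists_of_ex h.f_pos hr.two_le hx3 h6
  exact hP _ u hx3 hu (h.dvd_of_fac hu.prime (Prim_five_le hu hx3) hx hud)

/-- all primes of an exponent divide the order as soon as one of them does -/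
theorem Sh.dvd_of_prim (h : Sh r c f d N l) (hr : r.Prime) {x : Fac} (hx : x ∈ l) (hx3 : 3 ≤ ex f x)
    (hu : Prim r (ex f x) u) : u ∣ c :=
  h.dvd_of_fac hu.prime (Prim_five_le hu hx3) hx (Prim_dvd_val h.f_pos hr.pos hx3 hu)

end Cfsg.Agent.H426.LieFam
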