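import Mathlib

/-!
# A computable field with 16 elements

Elements are coded by numbers below 16 (polynomials in `α` over the field with two elements,
`α ^ 4 = α + 1`); addition is `xor`, multiplication is a table lookup.
-/

set_option autoImplicit false

namespace Cfsg.Agent.H426

/-- the field with 16 elements -/
structure K16 where
  /-- the code -/
  v : Fin 16
deriving DecidableEq

namespace K16

/-- the multiplication table -/
def MT : ℕ := 0xa5783ce1b4692df05ba48679c23d1fe07ae36bf258c149d0843fd16a2e957bc0386d92c74f1ae5b0c6b1285f394ed7a0e7f6c5d4a3b28190192a7f4cd5e6b380bc5243ad618f9e70428ef93517dbac6063c914be8d27fa509d15ae26fb73c8402147ed8b9afc5630df9b5713eca86420fedcba98765432100000000000000000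

/-- the table of inverses -/
def IT : ℕ := 0x834a5c2f67bde910

/-- multiplication of codes -/
def mulN (a b : ℕ) : ℕ := (MT >>> (4 * (16 * a + b))) % 16

/-- inverse of codes -/
def invN (a : ℕ) : ℕ := (IT >>> (4 * a)) % 16

/-- the element with a given code (modulo 16) -/
def of (n : ℕ) : K16 := ⟨⟨n % 16, Nat.mod_lt _ (by norm_num)⟩⟩

/-- the code as a number -/
def code (a : K16) : ℕ := a.v.1

theorem code_lt (a : K16) : a.code < 16 := a.v.2

theorem code_of (n : ℕ) : (of n).code = n % 16 := rfl

theorem of_code (a : K16) : of a.code = a := by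
  rcases a with ⟨⟨a, h⟩⟩
  simp only [of, code]
  congr 2
  exact Nat.mod_eq_of_lt h

theorem ext' {a b : K16} (h : a.code = b.code) : a = b := by
  rw [← of_code a, h, of_code]

instance instFintype : Fintype K16 :=
  Fintype.ofEquiv (Fin 16) ⟨K16.mk, K16.v, fun _ => rfl, fun _ => rfl⟩

instance instZero : Zero K16 := ⟨of 0⟩
instance instOne : One K16 := ⟨of 1⟩
instance instAdd : Add K16 := ⟨fun a b => of (a.code ^^^ b.code)⟩
instance instMul : Mul K16 := ⟨fun a b => of (mulN a.code b.code)⟩
instance instNeg : Neg K16 := ⟨fun a => a⟩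
instance instInv : Inv K16 := ⟨fun a => of (invN a.code)⟩

theorem add_def (a b : K16) : a + b = of (a.code ^^^ b.code) := rfl
theorem mul_def (a b : K16) : a * b = of (mulN a.code b.code) := rfl

theorem add_comm' : ∀ a b : K16, a + b = b + a := by decide +kernel
theorem add_assoc' : ∀ a b c : K16, a + b + c = a + (b + c) := by decide +kernel
theorem zero_add' : ∀ a : K16, 0 + a = a := by decide +kernel
theorem neg_add' : ∀ a : K16, -a + a = 0 := by decide +kernel
theorem mul_comm' : ∀ a b : K16, a * b = b * a := by decide +kernel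
theorem mul_assoc' : ∀ a b c : K16, a * b * c = a * (b * c) := by decide +kernel
theorem one_mul' : ∀ a : K16, 1 * a = a := by decide +kernel
theorem mul_add' : ∀ a b c : K16, a * (b + c) = a * b + a * c := by decide +kernel
theorem zero_mul' : ∀ a : K16, 0 * a = 0 := by decide +kernel
theorem inv_zero' : (0 : K16)⁻¹ = 0 := by decide +kernel
theorem mul_inv' : ∀ a : K16, a ≠ 0 → a * a⁻¹ = 1 := by decide +kernel

instance instField : Field K16 where
  add_assoc := add_assoc'
  zero_add := zero_add'
  add_zero a := by rw [add_comm', zero_add']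
  add_comm := add_comm'
  neg_add_cancel := neg_add'
  nsmul := nsmulRec
  zsmul := zsmulRec
  left_distrib := mul_add'
  right_distrib a b c := by rw [mul_comm', mul_add', mul_comm' c a, mul_comm' c b]
  zero_mul := zero_mul'
  mul_zero a := by rw [mul_comm', zero_mul']
  mul_assoc := mul_assoc'
  one_mul := one_mul'
  mul_one a := by rw [mul_comm', one_mul']
  mul_comm := mul_comm'
  exists_pair_ne := ⟨0, 1, by decide⟩
  mul_inv_cancel := mul_inv'
  inv_zero := inv_zero'
  nnqsmul := _
  nnqsmul_def := fun _ _ => rfl
  qsmul := _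
  qsmul_def := fun _ _ => rfl

theorem card_K16 : Fintype.card K16 = 16 := rfl

theorem two_eq_zero : (2 : K16) = 0 := by decide +kernel

theorem add_self (a : K16) : a + a = 0 := by
  rw [← two_mul, two_eq_zero, zero_mul]

instance instCharP : CharP K16 2 :=
  CharTwo.of_one_ne_zero_of_two_eq_zero one_ne_zero two_eq_zero

end K16

end Cfsg.Agent.H426
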