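import Cfsg.Agent.H426.SixClass

/-!
# Groups of Lie type with largest exponent `4 k`, the other exponents dividing `4 k` or `6 k` (helper426)

`classify4` : a prime of exponent `4 k` and a prime of exponent `e₃ = 3 k` (or `e₃ = 3`, `k = 2`) divide `|S|`, no
prime of exponent `6 k`: the families `PSL₄(q)`, `PSp₈(√q)`, `PΩ₉(√q)`, `PΩ₈⁻(√q)`.
-/

set_option autoImplicit false
set_option linter.unusedVariables false

namespace Cfsg.Agent.H426.LieFam

open Cfsg Cfsg.Agent.H414.LieShape Cfsg.Agent.H436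

/-- the possible families -/
inductive Four (k : ℕ) : ℕ → Fam → Prop
  | l4 {f : ℕ} : f = k → Four k f (.psl 4)
  | s8 {f : ℕ} : 2 * f = k → Four k f (.psp 4)
  | o9 {f : ℕ} : 2 * f = k → Four k f (.oodd 4)
  | m8 {f : ℕ} : 2 * f = k → Four k f (.ominus 4)

theorem four_cases {k e : ℕ} (hk : 1 ≤ k) (he : 0 < e) (h : e ∣ 4 * k ∨ e ∣ 6 * k) :
    e ≤ 2 * k ∨ e = 3 * k ∨ e = 4 * k ∨ e = 6 * k := by
  rcases h with ⟨m, hm⟩ | ⟨m, hm⟩
  · rcases (show m = 0 ∨ m = 1 ∨ 2 ≤ m by omega) with h | h | h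
    · subst h; omega
    · subst h; omega
    · left
      have : e * 2 ≤ e * m := Nat.mul_le_mul_left _ h
      omega
  · rcases (show m = 0 ∨ m = 1 ∨ m = 2 ∨ 3 ≤ m by omega) with h | h | h | h
    · subst h; omega
    · subst h; omega
    · subst h; omega
    · left
      have : e * 3 ≤ e * m := Nat.mul_le_mul_left _ h
      omega

section

variable {k f : ℕ}

/-- the exponent condition -/
def Ok4 (k f : ℕ) (fam : Fam) : Prop := ∀ x ∈ fam.facs, ex f x ≤ 2 * k ∨ ex f x = 3 * k ∨ ex f x = 4 * k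

/-- the condition on the prime of exponent `3 k` -/
def Thr (k f : ℕ) (fam : Fam) : Prop := ∃ x ∈ fam.facs, ex f x = 3 * k ∨ k = 2 ∧ ex f x = 3

theorem four_psl {n : ℕ} (hk : 1 ≤ k) (hf : 1 ≤ f) (hn : 2 ≤ n) (h : Ok4 k f (.psl n))
    (h4 : ∃ x ∈ (Fam.psl n).facs, ex f x = 4 * k) (h3 : Thr k f (.psl n)) : Four k f (.psl n) := by
  obtain ⟨x, hx, hx6⟩ := h4
  obtain ⟨i, hi, rfl⟩ := List.mem_map.1 hx
  rw [List.mem_range] at hi
  change f * (i + 2) = 4 * k at hx6
  have key : ∀ j, 2 ≤ j → j ≤ n → f * j ≤ 2 * k ∨ f * j = 3 * k ∨ f * j = 4 * k := by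
    intro j h2 hj
    obtain ⟨t, rfl⟩ : ∃ t, j = t + 2 := ⟨j - 2, by omega⟩
    exact h _ (mem_range_map (F := fun i => Fac.sub (i + 2)) (show t < n - 1 by omega))
  have hin : i + 2 = n := by
    by_contra hne
    have h1 := key (i + 2 + 1) (by omega) (by omega)
    rw [Nat.mul_succ] at h1
    omega
  rw [hin] at hx6
  obtain ⟨y, hy, hy3⟩ := h3
  obtain ⟨j, hj, rfl⟩ := List.mem_map.1 hy
  rw [List.mem_range] at hj
  change f * (j + 2) = 3 * k ∨ k = 2 ∧ f * (j + 2) = 3 at hy3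
  rcases (show n = 2 ∨ n = 3 ∨ n = 4 ∨ 5 ≤ n by omega) with rfl | rfl | rfl | h4
  · exfalso
    obtain rfl : j = 0 := by omega
    omega
  · exfalso
    rcases (show j = 0 ∨ j = 1 by omega) with rfl | rfl <;> omega
  · exact .l4 (by omega)
  · exfalso
    obtain ⟨t, rfl⟩ : ∃ t, n = t + 1 := ⟨n - 1, by omega⟩
    have h1 := key t (by omega) (by omega)
    rw [Nat.mul_succ] at hx6
    have h2 : f * 4 ≤ f * t := Nat.mul_le_mul_left _ (by omega)
    omega

/-- the even exponents `2, 4, ..., 2 m` -/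
theorem four_even {m : ℕ} (hk : 1 ≤ k) (hf : 1 ≤ f) (hm : 2 ≤ m)
    (key : ∀ j, 1 ≤ j → j ≤ m → 2 * (f * j) ≤ 2 * k ∨ 2 * (f * j) = 3 * k ∨ 2 * (f * j) = 4 * k)
    (hx6 : 4 * k ≤ 2 * (f * m)) (h3 : ∃ j, 1 ≤ j ∧ j ≤ m ∧ (2 * (f * j) = 3 * k ∨ k = 2 ∧ 2 * (f * j) = 3)) :
    m = 4 ∧ 2 * f = k := by
  have h0 := key m (by omega) le_rfl
  obtain ⟨j, hj1, hj, hj3⟩ := h3
  rcases (show m = 2 ∨ m = 3 ∨ m = 4 ∨ 5 ≤ m by omega) with rfl | rfl | rfl | h4
  · exfalso
    rcases (show j = 1 ∨ j = 2 by omega) with rfl | rfl <;> omega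
  · exfalso
    rcases (show j = 1 ∨ j = 2 ∨ j = 3 by omega) with rfl | rfl | rfl <;> omega
  · omega
  · exfalso
    obtain ⟨t, rfl⟩ : ∃ t, m = t + 1 := ⟨m - 1, by omega⟩
    have h1 := key t (by omega) (by omega)
    rw [Nat.mul_succ] at h0 hx6
    have h2 : f * 4 ≤ f * t := Nat.mul_le_mul_left _ (by omega)
    omega

theorem thr_even {m : ℕ} {x : Fac} (hx : x ∈ (List.range m).map fun i => Fac.sub (2 * (i + 1)))
    (h : ex f x = 3 * k ∨ k = 2 ∧ ex f x = 3) :
    ∃ j, 1 ≤ j ∧ j ≤ m ∧ (2 * (f * j) = 3 * k ∨ k = 2 ∧ 2 * (f * j) = 3) := by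
  obtain ⟨i, hi, rfl⟩ := List.mem_map.1 hx
  rw [List.mem_range] at hi
  change f * (2 * (i + 1)) = 3 * k ∨ k = 2 ∧ f * (2 * (i + 1)) = 3 at h
  rw [show f * (2 * (i + 1)) = 2 * (f * (i + 1)) by ring] at h
  exact ⟨i + 1, by omega, by omega, h⟩

theorem four_psp {m : ℕ} (hk : 1 ≤ k) (hf : 1 ≤ f) (hm : 2 ≤ m) (h : Ok4 k f (.psp m))
    (h4 : ∃ x ∈ (Fam.psp m).facs, ex f x = 4 * k) (h3 : Thr k f (.psp m)) : Four k f (.psp m) := by
  obtain ⟨x, hx, hx6⟩ := h4
  obtain ⟨y, hy, hy3⟩ := h3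
  obtain ⟨i, hi, rfl⟩ := List.mem_map.1 hx
  rw [List.mem_range] at hi
  change f * (2 * (i + 1)) = 4 * k at hx6
  obtain ⟨rfl, h1⟩ := four_even (k := k) hk hf hm (fun j hj1 hj =>
    key_even (P := fun e => e ≤ 2 * k ∨ e = 3 * k ∨ e = 4 * k)
    (fun i hi => h _ (mem_range_map (F := fun i => Fac.sub (2 * (i + 1))) hi)) hj1 hj) (by
      have : f * (i + 1) ≤ f * m := Nat.mul_le_mul_left _ (by omega)
      have h2 : f * (2 * (i + 1)) = 2 * (f * (i + 1)) := by ring
      omega) (thr_even hy hy3)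
  exact .s8 h1

theorem four_oodd {m : ℕ} (hk : 1 ≤ k) (hf : 1 ≤ f) (hm : 3 ≤ m) (h : Ok4 k f (.oodd m))
    (h4 : ∃ x ∈ (Fam.oodd m).facs, ex f x = 4 * k) (h3 : Thr k f (.oodd m)) : Four k f (.oodd m) := by
  obtain ⟨x, hx, hx6⟩ := h4
  obtain ⟨y, hy, hy3⟩ := h3
  obtain ⟨i, hi, rfl⟩ := List.mem_map.1 hx
  rw [List.mem_range] at hi
  change f * (2 * (i + 1)) = 4 * k at hx6
  obtain ⟨rfl, h1⟩ := four_even (k := k) hk hf (show 2 ≤ m by omega) (fun j hj1 hj =>
    key_even (P := fun e => e ≤ 2 * k ∨ e = 3 * k ∨ e = 4 * k)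
    (fun i hi => h _ (mem_range_map (F := fun i => Fac.sub (2 * (i + 1))) hi)) hj1 hj) (by
      have : f * (i + 1) ≤ f * m := Nat.mul_le_mul_left _ (by omega)
      have h2 : f * (2 * (i + 1)) = 2 * (f * (i + 1)) := by ring
      omega) (thr_even hy hy3)
  exact .o9 h1

theorem four_oplus {m : ℕ} (hk : 1 ≤ k) (hf : 1 ≤ f) (hm : 4 ≤ m) (h : Ok4 k f (.oplus m))
    (h4 : ∃ x ∈ (Fam.oplus m).facs, ex f x = 4 * k) : False := by
  obtain ⟨x, hx, hx6⟩ := h4
  obtain ⟨t, rfl⟩ : ∃ t, m = t + 1 := ⟨m - 1, by omega⟩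
  have hm1 : f * (t + 1) ≤ 2 * k ∨ f * (t + 1) = 3 * k ∨ f * (t + 1) = 4 * k := h _ List.mem_cons_self
  have key : ∀ j, 1 ≤ j → j ≤ t → 2 * (f * j) ≤ 2 * k ∨ 2 * (f * j) = 3 * k ∨ 2 * (f * j) = 4 * k := fun j hj1 hj =>
    key_even (P := fun e => e ≤ 2 * k ∨ e = 3 * k ∨ e = 4 * k)
    (fun i hi => h _ (List.mem_cons_of_mem _ (mem_range_map (F := fun i => Fac.sub (2 * (i + 1))) hi))) hj1 hj
  have hx6' : 4 * k ≤ 2 * (f * t) := by
    rcases List.mem_cons.1 hx with rfl | hx
    · change f * (t + 1) = 4 * k at hx6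
      rw [Nat.mul_succ] at hx6
      have : f * 1 ≤ f * t := Nat.mul_le_mul_left _ (by omega)
      omega
    · obtain ⟨i, hi, rfl⟩ := List.mem_map.1 hx
      rw [List.mem_range] at hi
      change f * (2 * (i + 1)) = 4 * k at hx6
      have : f * (i + 1) ≤ f * t := Nat.mul_le_mul_left _ (by omega)
      have h2 : f * (2 * (i + 1)) = 2 * (f * (i + 1)) := by ring
      omega
  have h0 := key t (by omega) le_rfl
  rcases (show t = 3 ∨ t = 4 ∨ 5 ≤ t by omega) with rfl | rfl | h4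
  · omega
  · omega
  · obtain ⟨s, rfl⟩ : ∃ s, t = s + 1 := ⟨t - 1, by omega⟩
    have h1 := key s (by omega) (by omega)
    rw [Nat.mul_succ] at h0 hx6'
    have h2 : f * 4 ≤ f * s := Nat.mul_le_mul_left _ (by omega)
    omega

theorem four_ominus {m : ℕ} (hk : 1 ≤ k) (hf : 1 ≤ f) (hm : 4 ≤ m) (h : Ok4 k f (.ominus m))
    (h4 : ∃ x ∈ (Fam.ominus m).facs, ex f x = 4 * k) : Four k f (.ominus m) := by
  obtain ⟨x, hx, hx6⟩ := h4
  obtain ⟨t, rfl⟩ : ∃ t, m = t + 1 := ⟨m - 1, by omega⟩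
  have hx6' : 4 * k ≤ 2 * (f * (t + 1)) := by
    rcases List.mem_cons.1 hx with rfl | hx
    · change 2 * (f * (t + 1)) = 4 * k at hx6
      omega
    · obtain ⟨i, hi, rfl⟩ := List.mem_map.1 hx
      rw [List.mem_range] at hi
      change f * (2 * (i + 1)) = 4 * k at hx6
      have : f * (i + 1) ≤ f * (t + 1) := Nat.mul_le_mul_left _ (by omega)
      have h2 : f * (2 * (i + 1)) = 2 * (f * (i + 1)) := by ring
      omega
  have key : ∀ j, 1 ≤ j → j ≤ t + 1 → 2 * (f * j) ≤ 2 * k ∨ 2 * (f * j) = 3 * k ∨ 2 * (f * j) = 4 * k := by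
    intro j hj1 hj
    rcases (show j = t + 1 ∨ j ≤ t by omega) with rfl | hj'
    · exact h (Fac.add (t + 1)) List.mem_cons_self
    · exact key_even (P := fun e => e ≤ 2 * k ∨ e = 3 * k ∨ e = 4 * k)
        (fun i hi => h _ (List.mem_cons_of_mem _ (mem_range_map (F := fun i => Fac.sub (2 * (i + 1)))
          (show i < t + 1 - 1 by omega)))) hj1 hj'
  have h0 := key (t + 1) (by omega) le_rfl
  rcases (show t = 3 ∨ 4 ≤ t by omega) with rfl | h4
  · exact .m8 (by omega)
  · exfalso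
    have h1 := key t (by omega) (by omega)
    rw [Nat.mul_succ] at h0 hx6'
    have h2 : f * 4 ≤ f * t := Nat.mul_le_mul_left _ (by omega)
    omega

theorem four_psu {n : ℕ} (hk : 1 ≤ k) (hf : 1 ≤ f) (hn : 3 ≤ n) (h : Ok4 k f (.psu n))
    (h4 : ∃ x ∈ (Fam.psu n).facs, ex f x = 4 * k) (h3 : Thr k f (.psu n)) : False := by
  have keyo : ∀ j, Odd j → 2 ≤ j → j ≤ n → 2 * (f * j) ≤ 2 * k ∨ 2 * (f * j) = 3 * k ∨ 2 * (f * j) = 4 * k := by
    intro j ho h2 hj
    obtain ⟨t, rfl⟩ : ∃ t, j = t + 2 := ⟨j - 2, by omega⟩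
    have h1 := h _ (mem_range_map (F := fun i => if Even (i + 1) then Fac.add (i + 2) else Fac.sub (i + 2))
      (show t < n - 1 by omega))
    have h3 : Even (t + 1) := by
      rcases Nat.even_or_odd (t + 1) with h3 | h3
      · exact h3
      · exfalso
        have h4 : Even (t + 2) := h3.add_one
        exact (Nat.not_odd_iff_even.2 h4) ho
    simp only [h3, if_true] at h1
    exact h1
  have keye : ∀ j, Even j → 2 ≤ j → j ≤ n → f * j ≤ 2 * k ∨ f * j = 3 * k ∨ f * j = 4 * k := by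
    intro j ho h2 hj
    obtain ⟨t, rfl⟩ : ∃ t, j = t + 2 := ⟨j - 2, by omega⟩
    have h1 := h _ (mem_range_map (F := fun i => if Even (i + 1) then Fac.add (i + 2) else Fac.sub (i + 2))
      (show t < n - 1 by omega))
    have h3 : ¬ Even (t + 1) := by
      intro h3
      have h4 : Odd (t + 2) := h3.add_one
      exact (Nat.not_odd_iff_even.2 ho) h4
    simp only [h3, if_false] at h1
    exact h1
  have h4' : (∃ j, Odd j ∧ 2 ≤ j ∧ j ≤ n ∧ 2 * (f * j) = 4 * k) ∨ ∃ j, Even j ∧ 2 ≤ j ∧ j ≤ n ∧ f * j = 4 * k := by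
    obtain ⟨x, hx, hx6⟩ := h4
    obtain ⟨i, hi, rfl⟩ := List.mem_map.1 hx
    rw [List.mem_range] at hi
    by_cases h3 : Even (i + 1)
    · left
      simp only [h3, if_true] at hx6
      exact ⟨i + 2, h3.add_one, by omega, by omega, hx6⟩
    · right
      simp only [h3, if_false] at hx6
      exact ⟨i + 2, (Nat.not_even_iff_odd.1 h3).add_one, by omega, by omega, hx6⟩
  obtain ⟨t, ht, htn⟩ : ∃ t, Odd t ∧ (n = t ∨ n = t + 1) := by
    rcases Nat.even_or_odd n with h1 | h1
    · refine ⟨n - 1, ?_, by omega⟩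
      obtain ⟨a, ha⟩ := h1
      exact ⟨a - 1, by omega⟩
    · exact ⟨n, h1, Or.inl rfl⟩
  have ht3 : 3 ≤ t := by
    rcases htn with h1 | h1
    · omega
    · obtain ⟨a, ha⟩ := ht
      omega
  have htop : 4 * k ≤ 2 * (f * t) := by
    rcases h4' with ⟨j, ho, h2, hj, h3⟩ | ⟨j, he, h2, hj, h3⟩
    · have hjt : j ≤ t := by
        rcases htn with h1 | h1
        · omega
        · rcases (show j = t + 1 ∨ j ≤ t by omega) with h4 | h4
          · exfalso
            rw [h4] at ho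
            exact (Nat.not_even_iff_odd.2 ho) ht.add_one
          · exact h4
      have : f * j ≤ f * t := Nat.mul_le_mul_left _ hjt
      omega
    · have hjt : j ≤ t + t := by omega
      have : f * j ≤ f * (t + t) := Nat.mul_le_mul_left _ hjt
      rw [Nat.mul_add] at this
      omega
  have h1 := keyo t ht (by omega) (by omega)
  have h5 : 2 * (f * t) = 4 * k := by omega
  rcases (show t = 3 ∨ t = 4 ∨ 5 ≤ t by omega) with rfl | rfl | h6
  · rcases htn with rfl | rfl
    · obtain ⟨x, hx, hx3⟩ := h3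
      obtain ⟨i, hi, rfl⟩ := List.mem_map.1 hx
      rw [List.mem_range] at hi
      rcases (show i = 0 ∨ i = 1 by omega) with rfl | rfl
      · rw [if_neg (by decide)] at hx3
        simp only [ex] at hx3
        omega
      · rw [if_pos (by decide)] at hx3
        simp only [ex] at hx3
        omega
    · have := keye 4 (by decide) (by omega) (by omega)
      omega
  · exact absurd ht (by decide)
  · obtain ⟨s, rfl⟩ : ∃ s, t = s + 2 := ⟨t - 2, by omega⟩
    have hs : Odd s := by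
      rw [Nat.odd_iff] at ht ⊢
      omega
    have h4 := keyo s hs (by omega) (by omega)
    rw [Nat.mul_add] at h5
    rcases (show s = 3 ∨ s = 4 ∨ s = 5 ∨ s = 6 ∨ 7 ≤ s by omega) with rfl | rfl | rfl | rfl | h7
    · omega
    · exact absurd hs (by decide)
    · omega
    · exact absurd hs (by decide)
    · have : f * 7 ≤ f * s := Nat.mul_le_mul_left _ h7
      omega

/-- **The list.** -/
theorem classify4_aux {r : ℕ} {S : Type*} [Group S] {fam : Fam} (hk : 1 ≤ k) (hf : 1 ≤ f) (hI : fam.Is r f S)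
    (h : Ok4 k f fam) (h4 : ∃ x ∈ fam.facs, ex f x = 4 * k) (h3 : Thr k f fam) : Four k f fam := by
  cases fam with
  | psl n => exact four_psl hk hf hI.1 h h4 h3
  | psp m => exact four_psp hk hf hI.1 h h4 h3
  | psu n => exact (four_psu hk hf hI.1 h h4 h3).elim
  | oodd m => exact four_oodd hk hf hI.1 h h4 h3
  | oplus m => exact (four_oplus hk hf hI.1 h h4).elim
  | ominus m => exact four_ominus hk hf hI.1 h h4
  | g2 =>
    exfalso
    obtain ⟨x, hx, hx6⟩ := h4
    obtain ⟨y, hy, hy3⟩ := h3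
    simp only [Fam.facs, List.map_cons, List.map_nil, List.mem_cons, List.not_mem_nil, or_false] at hx hy
    simp only [Ok4, Fam.facs, List.map_cons, List.map_nil, List.forall_mem_cons, List.not_mem_nil, false_implies,
      implies_true, and_true, ex] at h
    rcases hx with rfl | rfl <;> simp only [ex] at hx6 <;> rcases hy with rfl | rfl <;> simp only [ex] at hy3 <;> omega
  | f4 =>
    exfalso
    obtain ⟨x, hx, hx6⟩ := h4
    simp only [Fam.facs, List.map_cons, List.map_nil, List.mem_cons, List.not_mem_nil, or_false] at hx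
    simp only [Ok4, Fam.facs, List.map_cons, List.map_nil, List.forall_mem_cons, List.not_mem_nil, false_implies,
      implies_true, and_true, ex] at h
    rcases hx with rfl | rfl | rfl | rfl <;> simp only [ex] at hx6 <;> omega
  | e6 =>
    exfalso
    obtain ⟨x, hx, hx6⟩ := h4
    simp only [Fam.facs, List.map_cons, List.map_nil, List.mem_cons, List.not_mem_nil, or_false] at hx
    simp only [Ok4, Fam.facs, List.map_cons, List.map_nil, List.forall_mem_cons, List.not_mem_nil, false_implies,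
      implies_true, and_true, ex] at h
    rcases hx with rfl | rfl | rfl | rfl | rfl | rfl <;> simp only [ex] at hx6 <;> omega
  | e7 =>
    exfalso
    obtain ⟨x, hx, hx6⟩ := h4
    simp only [Fam.facs, List.map_cons, List.map_nil, List.mem_cons, List.not_mem_nil, or_false] at hx
    simp only [Ok4, Fam.facs, List.map_cons, List.map_nil, List.forall_mem_cons, List.not_mem_nil, false_implies,
      implies_true, and_true, ex] at h
    rcases hx with rfl | rfl | rfl | rfl | rfl | rfl | rfl <;> simp only [ex] at hx6 <;> omega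
  | e8 =>
    exfalso
    obtain ⟨x, hx, hx6⟩ := h4
    simp only [Fam.facs, List.map_cons, List.map_nil, List.mem_cons, List.not_mem_nil, or_false] at hx
    simp only [Ok4, Fam.facs, List.map_cons, List.map_nil, List.forall_mem_cons, List.not_mem_nil, false_implies,
      implies_true, and_true, ex] at h
    rcases hx with rfl | rfl | rfl | rfl | rfl | rfl | rfl | rfl <;> simp only [ex] at hx6 <;> omega
  | te6 =>
    exfalso
    obtain ⟨x, hx, hx6⟩ := h4
    simp only [Fam.facs, List.mem_cons, List.not_mem_nil, or_false] at hx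
    simp only [Ok4, Fam.facs, List.forall_mem_cons, List.not_mem_nil, false_implies,
      implies_true, and_true, ex] at h
    rcases hx with rfl | rfl | rfl | rfl | rfl | rfl <;> simp only [ex] at hx6 <;> omega
  | td4 =>
    exfalso
    obtain ⟨x, hx, hx6⟩ := h4
    obtain ⟨y, hy, hy3⟩ := h3
    simp only [Fam.facs, List.mem_cons, List.not_mem_nil, or_false] at hx hy
    simp only [Ok4, Fam.facs, List.forall_mem_cons, List.not_mem_nil, false_implies,
      implies_true, and_true, ex] at h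
    rcases hx with rfl | rfl | rfl <;> simp only [ex] at hx6 <;>
      rcases hy with rfl | rfl | rfl <;> simp only [ex] at hy3 <;> omega
  | sz =>
    exfalso
    obtain ⟨x, hx, hx6⟩ := h4
    obtain ⟨y, hy, hy3⟩ := h3
    simp only [Fam.facs, List.mem_cons, List.not_mem_nil, or_false] at hx hy
    simp only [Ok4, Fam.facs, List.forall_mem_cons, List.not_mem_nil, false_implies,
      implies_true, and_true, ex] at h
    rcases hx with rfl | rfl <;> simp only [ex] at hx6 <;>
      rcases hy with rfl | rfl <;> simp only [ex] at hy3 <;> omega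
  | tf4 =>
    exfalso
    obtain ⟨x, hx, hx6⟩ := h4
    obtain ⟨y, hy, hy3⟩ := h3
    simp only [Fam.facs, List.mem_cons, List.not_mem_nil, or_false] at hx hy
    simp only [Ok4, Fam.facs, List.forall_mem_cons, List.not_mem_nil, false_implies,
      implies_true, and_true, ex] at h
    rcases hx with rfl | rfl | rfl | rfl <;> simp only [ex] at hx6 <;>
      rcases hy with rfl | rfl | rfl | rfl <;> simp only [ex] at hy3 <;> omega
  | ree =>
    exfalso
    obtain ⟨x, hx, hx6⟩ := h4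
    obtain ⟨y, hy, hy3⟩ := h3
    simp only [Fam.facs, List.mem_cons, List.not_mem_nil, or_false] at hx hy
    simp only [Ok4, Fam.facs, List.forall_mem_cons, List.not_mem_nil, false_implies,
      implies_true, and_true, ex] at h
    rcases hx with rfl | rfl <;> simp only [ex] at hx6 <;>
      rcases hy with rfl | rfl <;> simp only [ex] at hy3 <;> omega

end

/-- **The classification without primes of exponent `6 k`.** -/
theorem classify4 {r c k f d N : ℕ} {S : Type*} [Group S] {fam : Fam} (hr : r.Prime) (hk : 1 ≤ k) (hI : fam.Is r f S)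
    (hS : Sh r c f d N fam.facs)
    (hπ : ∀ u, u.Prime → 5 ≤ u → u ≠ r → u ∣ c → u ∣ r ^ (4 * k) - 1 ∨ u ∣ r ^ (6 * k) - 1)
    (h6 : ∀ u, Prim r (6 * k) u → ¬ u ∣ c) (h26 : ¬ (r = 2 ∧ k = 1))
    {u : ℕ} (hu : Prim r (4 * k) u) (hud : u ∣ c)
    {v e : ℕ} (hv : Prim r e v) (hvd : v ∣ c) (he : e = 3 * k ∨ k = 2 ∧ e = 3) : Four k f fam := by
  have hok : Ok4 k f fam := by
    intro x hx
    have hp := ex_pos hS.f_pos hI hx
    rcases (show ex f x ≤ 2 ∨ 3 ≤ ex f x by omega) with h3 | h3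
    · left; omega
    by_cases h6' : r = 2 ∧ ex f x = 6
    · have : k ≠ 1 := fun hk1 => h26 ⟨h6'.1, hk1⟩
      rw [h6'.2]
      rcases (show k = 2 ∨ 3 ≤ k by omega) with h7 | h7 <;> omega
    refine hS.all_ex hr (fun e => e ≤ 2 * k ∨ e = 3 * k ∨ e = 4 * k) ?_ hx h3 h6'
    intro e u he hu hud
    have h7 := four_cases (k := k) (e := e) hk (by omega) (by
      rcases hπ u hu.prime (Prim_five_le hu he) (by rintro rfl; exact hu.not_dvd (dvd_refl _)) hud with h1 | h1
      · exact Or.inl ((hu.dvd_iff _).1 h1)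
      · exact Or.inr ((hu.dvd_iff _).1 h1))
    rcases h7 with h7 | h7 | h7 | h7
    · exact Or.inl h7
    · exact Or.inr (Or.inl h7)
    · exact Or.inr (Or.inr h7)
    · exact (h6 u (h7 ▸ hu) hud).elim
  refine classify4_aux hk hS.f_pos hI hok ?_ ?_
  · obtain ⟨x, hx, -, he⟩ := hS.exists_ex hr hu hud
    refine ⟨x, hx, ?_⟩
    have h1 := hok x hx
    have h2 := ex_pos hS.f_pos hI hx
    have h3 := Nat.le_of_dvd h2 he
    omega
  · obtain ⟨x, hx, -, hex⟩ := hS.exists_ex hr hv hvd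
    refine ⟨x, hx, ?_⟩
    have h1 := hok x hx
    have h2 := ex_pos hS.f_pos hI hx
    have h3 := Nat.le_of_dvd h2 hex
    rcases he with he | ⟨hk2, he⟩
    · rw [he] at hex h3
      left
      rcases h1 with h1 | h1 | h1
      · omega
      · exact h1
      · exfalso
        rw [h1] at hex
        obtain ⟨m, hm⟩ := hex
        rcases (show m = 0 ∨ m = 1 ∨ 2 ≤ m by omega) with h | h | h
        · subst h; omega
        · subst h; omega
        · have : 3 * k * 2 ≤ 3 * k * m := Nat.mul_le_mul_left _ h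
          omega
    · subst hk2
      rw [he] at hex h3
      omega

end Cfsg.Agent.H426.LieFam
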