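import Mathlib.GroupTheory.SemidirectProduct
import Mathlib.GroupTheory.Perm.Cycle.Type
import Mathlib.Algebra.GroupWithZero.Action.Basic
import Mathlib.Algebra.Group.Shrink
import Mathlib.GroupTheory.PGroup
import Mathlib.SetTheory.Cardinal.Finite
import Mathlib.Algebra.Group.Equiv.TypeTags
import Mathlib.Algebra.Module.Basic
import Mathlib.Tactic

/-!
# Unboundedly many groups with the same prime graph

If a finite group `G` acts on a nonzero elementary abelian `p`-group `V` (with `p ∣ |G|`) and every
element of prime order `r ≠ p` of `G` having a nonzero fixed vector in `V` forces an element of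
order `p * r` in `G`, then the groups `V ^ k ⋊ G` all have the prime graph of `G`.
-/

set_option autoImplicit false

namespace Cfsg.Agent.H426

open SemidirectProduct

universe u v

section

variable {G : Type u} {V : Type v} [Group G] [AddCommGroup V] [DistribMulAction G V]

/-- the action of `G` on the multiplicative copy of `V ^ k` -/
noncomputable def actHom (G : Type u) (V : Type v) [Group G] [AddCommGroup V]
    [DistribMulAction G V] (k : ℕ) :
    G →* MulAut (Multiplicative (Fin k → V)) where
  toFun g := AddEquiv.toMultiplicative (DistribMulAction.toAddEquiv (Fin k → V) g)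
  map_one' := by
    ext x
    simp
  map_mul' g h := by
    ext x
    simp [mul_smul]

theorem actHom_apply (k : ℕ) (g : G) (x : Fin k → V) :
    actHom G V k g (Multiplicative.ofAdd x) = Multiplicative.ofAdd (g • x) := rfl

/-- the group `V ^ k ⋊ G` -/
abbrev BigGroup (G : Type u) (V : Type v) [Group G] [AddCommGroup V]
    [DistribMulAction G V] (k : ℕ) : Type max u v :=
  (Multiplicative (Fin k → V)) ⋊[actHom G V k] G

theorem natCard_bigGroup (k : ℕ) :
    Nat.card (BigGroup G V k) = Nat.card V ^ k * Nat.card G := by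
  have h1 : Nat.card (BigGroup G V k)
      = Nat.card (Multiplicative (Fin k → V)) * Nat.card G := by
    rw [← Nat.card_prod]
    exact Nat.card_congr SemidirectProduct.equivProd
  rw [h1]
  congr 1
  have h2 : Nat.card (Multiplicative (Fin k → V)) = Nat.card (Fin k → V) :=
    Nat.card_congr Multiplicative.toAdd
  rw [h2, Nat.card_fun]
  simp

theorem finite_bigGroup [Finite G] [Finite V] (k : ℕ) : Finite (BigGroup G V k) :=
  Finite.of_equiv _ SemidirectProduct.equivProd.symm

theorem ker_elt {p : ℕ} (hpV : ∀ v : V, p • v = 0) (k : ℕ) (x : BigGroup G V k)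
    (hx : x.right = 1) : x ^ p = 1 := by
  have h1 : x = inl x.left := by
    ext
    · simp
    · simp [hx]
  rw [h1, ← map_pow]
  have h2 : x.left ^ p = 1 := by
    have h3 : x.left ^ p = Multiplicative.ofAdd (p • Multiplicative.toAdd x.left) := rfl
    rw [h3]
    have h4 : p • Multiplicative.toAdd x.left = 0 := by
      funext i
      simp [hpV]
    rw [h4]
    rfl
  rw [h2, map_one]

theorem dvd_order_right {p : ℕ} (hp : p.Prime) (hpV : ∀ v : V, p • v = 0) (k : ℕ)
    (h : BigGroup G V k) (hfin : orderOf h ≠ 0) {s : ℕ} (hs : s.Prime) (hsp : s ≠ p)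
    (hdvd : s ∣ orderOf h) : s ∣ orderOf (h.right) := by
  obtain ⟨m, hm⟩ := hdvd
  have hm0 : m ≠ 0 := by
    rintro rfl
    exact hfin (by simpa using hm)
  have hord : orderOf (h ^ m) = s := by
    rw [orderOf_pow' _ hm0, hm, Nat.gcd_eq_right (Dvd.intro_left s rfl)]
    exact Nat.mul_div_cancel _ (Nat.pos_of_ne_zero hm0)
  have hr : (h ^ m).right = h.right ^ m := by
    have := map_pow (rightHom (φ := actHom G V k)) h m
    simpa using this
  have hne : (h ^ m).right ≠ 1 := by
    intro h1
    have h2 := ker_elt hpV k (h ^ m) h1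
    have h3 : s ∣ p := by
      rw [← hord]
      exact orderOf_dvd_of_pow_eq_one h2
    exact hsp ((Nat.prime_dvd_prime_iff_eq hs hp).1 h3)
  have h4 : orderOf (h ^ m).right = s := by
    refine orderOf_eq_prime (hp := ⟨hs⟩) ?_ hne
    have h5 : (h ^ m) ^ s = 1 := by rw [← hord]; exact pow_orderOf_eq_one _
    have h6 := congrArg (rightHom (φ := actHom G V k)) h5
    rw [map_pow, map_one] at h6
    exact h6
  rw [← h4, hr]
  exact orderOf_pow_dvd m

theorem orderOf_right_dvd (k : ℕ) (h : BigGroup G V k) : orderOf h.right ∣ orderOf h := by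
  have := orderOf_map_dvd (rightHom (φ := actHom G V k)) h
  simpa using this

theorem fixed_of_pow {k : ℕ} (h : BigGroup G V k) (m : ℕ) (hm : (h ^ m).right = 1)
    (hne : h ^ m ≠ 1) : ∃ v : V, v ≠ 0 ∧ h.right • v = v := by
  set x := h ^ m with hx
  have hcomm : h * x = x * h := by
    rw [hx, ← pow_succ', ← pow_succ]
  have h1 : (h * x).left = (x * h).left := by rw [hcomm]
  rw [mul_left, mul_left, hm, map_one, MulAut.one_apply, mul_comm x.left h.left] at h1
  have h2 : actHom G V k h.right x.left = x.left := mul_left_cancel h1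
  have hne2 : x.left ≠ 1 := by
    intro h3
    apply hne
    ext
    · rw [h3]; rfl
    · rw [hm]; rfl
  have h4 : h.right • (Multiplicative.toAdd x.left) = Multiplicative.toAdd x.left := h2
  have h5 : Multiplicative.toAdd x.left ≠ 0 := hne2
  obtain ⟨i, hi⟩ := Function.ne_iff.1 h5
  exact ⟨Multiplicative.toAdd x.left i, hi, congrFun h4 i⟩

theorem bigGroup_orderOf {p : ℕ} (hp : p.Prime) [Finite G] [Finite V]
    (hpV : ∀ v : V, p • v = 0)
    (hfix : ∀ r : ℕ, r.Prime → r ≠ p → ∀ (g : G) (v : V), orderOf g = r → v ≠ 0 → g • v = v →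
      ∃ x : G, orderOf x = p * r)
    (k : ℕ) (q r : ℕ) (hq : q.Prime) (hr : r.Prime) (hqr : q ≠ r)
    (h : BigGroup G V k) (hh : orderOf h = q * r) : ∃ g : G, orderOf g = q * r := by
  have hfin : orderOf h ≠ 0 := by
    rw [hh]
    exact Nat.mul_ne_zero hq.ne_zero hr.ne_zero
  -- the case of `p` among the two primes
  have key : ∀ s : ℕ, s.Prime → s ≠ p → orderOf h = p * s → ∃ g : G, orderOf g = p * s := by
    intro s hs hsp hord
    have h1 : s ∣ orderOf h.right :=
      dvd_order_right hp hpV k h hfin hs hsp (by rw [hord]; exact Dvd.intro_left p rfl)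
    have h2 : orderOf h.right ∣ p * s := by rw [← hord]; exact orderOf_right_dvd k h
    obtain ⟨m, hm⟩ := h1
    have h3 : m ∣ p := by
      rw [hm, mul_comm p s] at h2
      exact Nat.dvd_of_mul_dvd_mul_left hs.pos h2
    rcases (Nat.dvd_prime hp).1 h3 with h4 | h4
    · have h5 : orderOf h.right = s := by rw [hm, h4, mul_one]
      have h6 : (h ^ s).right = 1 := by
        have := map_pow (rightHom (φ := actHom G V k)) h s
        simp only [rightHom_eq_right] at this
        rw [this, ← h5, pow_orderOf_eq_one]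
      have h7 : h ^ s ≠ 1 := by
        intro h8
        have h9 := orderOf_dvd_of_pow_eq_one h8
        rw [hord] at h9
        have h10 : p * s ≤ s := Nat.le_of_dvd hs.pos h9
        have h11 : 2 * s ≤ p * s := Nat.mul_le_mul_right s hp.two_le
        have := hs.pos
        omega
      obtain ⟨v, hv, hfv⟩ := fixed_of_pow h s h6 h7
      exact hfix s hs hsp h.right v h5 hv hfv
    · exact ⟨h.right, by rw [hm, h4, mul_comm]⟩
  by_cases hqp : q = p
  · subst hqp
    exact key r hr (Ne.symm hqr) hh
  by_cases hrp : r = p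
  · subst hrp
    rw [mul_comm q r] at hh ⊢
    exact key q hq hqr hh
  · have h1 : q ∣ orderOf h.right :=
      dvd_order_right hp hpV k h hfin hq hqp (by rw [hh]; exact Dvd.intro r rfl)
    have h2 : r ∣ orderOf h.right :=
      dvd_order_right hp hpV k h hfin hr hrp (by rw [hh]; exact Dvd.intro_left q rfl)
    have h3 : q * r ∣ orderOf h.right :=
      Nat.Coprime.mul_dvd_of_dvd_of_dvd ((Nat.coprime_primes hq hr).2 hqr) h1 h2
    exact ⟨h.right, Nat.dvd_antisymm (by rw [← hh]; exact orderOf_right_dvd k h) h3⟩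

theorem prime_dvd_card_bigGroup {p : ℕ} (hp : p.Prime) [Finite G] [Finite V]
    (hpV : ∀ v : V, p • v = 0) (hpG : p ∣ Nat.card G) (k q : ℕ) (hq : q.Prime) :
    q ∣ Nat.card G ↔ q ∣ Nat.card (BigGroup G V k) := by
  rw [natCard_bigGroup]
  refine ⟨fun h => Dvd.dvd.mul_left h _, fun h => ?_⟩
  rcases (Nat.Prime.dvd_mul hq).1 h with h1 | h1
  · have h2 : q ∣ Nat.card V := hq.dvd_of_dvd_pow h1
    have : Fact q.Prime := ⟨hq⟩
    obtain ⟨x, hx⟩ := exists_prime_addOrderOf_dvd_card' q h2
    have h3 : q ∣ p := by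
      rw [← hx]
      exact addOrderOf_dvd_of_nsmul_eq_zero (hpV x)
    rw [(Nat.prime_dvd_prime_iff_eq hq hp).1 h3]
    exact hpG
  · exact h1

/-- **Main construction.** -/
theorem exists_large_same_primeGraph {p : ℕ} (hp : p.Prime) [Finite G] [Finite V] [Nontrivial V]
    (hpV : ∀ v : V, p • v = 0) (hpG : p ∣ Nat.card G)
    (hfix : ∀ r : ℕ, r.Prime → r ≠ p → ∀ (g : G) (v : V), orderOf g = r → v ≠ 0 → g • v = v →
      ∃ x : G, orderOf x = p * r) (N : ℕ) :
    ∃ (H : Type) (_ : Group H) (_ : Finite H), N < Nat.card H ∧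
      ((∀ q : ℕ, q.Prime → (q ∣ Nat.card G ↔ q ∣ Nat.card H)) ∧
      (∀ q r : ℕ, q.Prime → r.Prime → q ≠ r →
        ((∃ g : G, orderOf g = q * r) ↔ (∃ g : H, orderOf g = q * r)))) := by
  have : Finite (BigGroup G V N) := finite_bigGroup N
  let e : Shrink.{0} (BigGroup G V N) ≃* BigGroup G V N := Shrink.mulEquiv
  have hcard : Nat.card (Shrink.{0} (BigGroup G V N)) = Nat.card (BigGroup G V N) :=
    Nat.card_congr e.toEquiv
  refine ⟨Shrink.{0} (BigGroup G V N), inferInstance, Finite.of_equiv _ e.symm.toEquiv, ?_, ?_, ?_⟩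
  · rw [hcard, natCard_bigGroup]
    have h1 : 2 ≤ Nat.card V := by
      have := Fintype.ofFinite V
      rw [Nat.card_eq_fintype_card]
      exact Fintype.one_lt_card
    have h2 : 2 ^ N ≤ Nat.card V ^ N := Nat.pow_le_pow_left h1 N
    have h3 : N < 2 ^ N := Nat.lt_two_pow_self
    have h4 : 0 < Nat.card G := Nat.card_pos
    calc N < Nat.card V ^ N := lt_of_lt_of_le h3 h2
      _ ≤ Nat.card V ^ N * Nat.card G := Nat.le_mul_of_pos_right _ h4
  · intro q hq
    rw [hcard]
    exact prime_dvd_card_bigGroup hp hpV hpG N q hq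
  · intro q r hq hr hqr
    constructor
    · rintro ⟨g, hg⟩
      refine ⟨e.symm (inr g), ?_⟩
      rw [MulEquiv.orderOf_eq, orderOf_injective (inr : G →* BigGroup G V N) inr_injective, hg]
    · rintro ⟨h, hh⟩
      refine bigGroup_orderOf hp hpV hfix N q r hq hr hqr (e h) ?_
      rw [MulEquiv.orderOf_eq, hh]

end

end Cfsg.Agent.H426
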