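import Mathlib
import Cfsg.Agent.H426.Nse
import Cfsg.Agent.S0228
import Cfsg.Agent.S0494
import Cfsg.Agent.S0497

/-!
# Identification of `A₄`, `A₅`, `A₆` from the numbers of elements of given orders
-/

set_option autoImplicit false

namespace Cfsg.Agent.H426.Nse

universe u

section

variable {G : Type u} [Group G] [Finite G]

theorem orderOf_mem_of_total (S : Finset ℕ) (hS : S ⊆ (Nat.card G).divisors)
    (hsum : ∑ d ∈ S, so G d = Nat.card G) (g : G) : orderOf g ∈ S := by
  by_contra h
  have h1 : orderOf g ∈ (Nat.card G).divisors :=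
    Nat.mem_divisors.2 ⟨orderOf_dvd_natCard g, Nat.card_pos.ne'⟩
  have h2 : 0 < so G (orderOf g) := (so_pos_iff G _).2 ⟨g, rfl⟩
  have h3 : ∑ d ∈ insert (orderOf g) S, so G d ≤ ∑ d ∈ (Nat.card G).divisors, so G d :=
    Finset.sum_le_sum_of_subset (Finset.insert_subset h1 hS)
  rw [Finset.sum_insert h, hsum, card_eq_sum_so] at h3
  omega

omit [Finite G] in
/-- elements whose order is prime to the index of a normal subgroup belong to it -/
theorem mem_of_coprime_index (N : Subgroup G) [N.Normal] {g : G}
    (h : Nat.Coprime (orderOf g) N.index) : g ∈ N := by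
  have h1 : orderOf (QuotientGroup.mk g : G ⧸ N) ∣ orderOf g := orderOf_map_dvd (QuotientGroup.mk' N) g
  have h2 : orderOf (QuotientGroup.mk g : G ⧸ N) ∣ N.index := by
    rw [Subgroup.index]
    exact orderOf_dvd_natCard _
  have h3 : orderOf (QuotientGroup.mk g : G ⧸ N) = 1 :=
    Nat.eq_one_of_dvd_coprimes h h1 h2
  rw [orderOf_eq_one_iff, QuotientGroup.eq_one_iff] at h3
  exact h3

/-- number of elements of given order in a normal subgroup of coprime index -/
theorem card_ge (N : Subgroup G) [N.Normal] (S : Finset ℕ)
    (hS : ∀ m ∈ S, Nat.Coprime m N.index) : ∑ m ∈ S, so G m ≤ Nat.card N := by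
  classical
  have := Fintype.ofFinite G
  have e : ∀ m, so G m = (Finset.univ.filter fun g : G => orderOf g = m).card := by
    intro m
    unfold so
    rw [Nat.card_eq_fintype_card, Fintype.card_subtype]
  rw [Finset.sum_congr rfl (fun m _ => e m), ← Finset.card_biUnion]
  · have h1 : Nat.card N = (Finset.univ.filter fun g : G => g ∈ N).card := by
      rw [Nat.card_eq_fintype_card, ← Fintype.card_subtype]
    rw [h1]
    apply Finset.card_le_card
    intro g hg
    rw [Finset.mem_biUnion] at hg
    obtain ⟨m, hm, hg⟩ := hg
    rw [Finset.mem_filter] at hg ⊢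
    refine ⟨Finset.mem_univ _, mem_of_coprime_index N ?_⟩
    rw [hg.2]
    exact hS m hm
  · intro a ha b hb hab
    rw [Function.onFun, Finset.disjoint_left]
    intro g hga hgb
    rw [Finset.mem_filter] at hga hgb
    exact hab (hga.2.symm.trans hgb.2)

/-- conjugation by an element of prime order without fixed points -/
theorem dvd_card_of_free {p : ℕ} [Fact p.Prime] {y : G} (hy : y ^ p = 1) (T : Set G)
    (hT : ∀ t ∈ T, y * t * y⁻¹ ∈ T) (hfree : ∀ t ∈ T, y * t ≠ t * y) : p ∣ Nat.card T := by
  classical
  have := Fintype.ofFinite G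
  let f : Function.End T := fun t => ⟨y * t.1 * y⁻¹, hT t.1 t.2⟩
  have hf : ∀ (n : ℕ) (t : T), ((f ^ n) t).1 = y ^ n * t.1 * (y ^ n)⁻¹ := by
    intro n
    induction n with
    | zero => intro t; simp; rfl
    | succ n ih =>
      intro t
      rw [pow_succ']
      change y * ((f ^ n) t).1 * y⁻¹ = _
      rw [ih, pow_succ']
      group
  have h1 : f ^ p ^ 1 = 1 := by
    funext t
    apply Subtype.ext
    rw [hf, pow_one, hy]
    simp
    rfl
  have h2 := Equiv.Perm.card_fixedPoints_modEq (p := p) (n := 1) h1
  have h3 : Fintype.card (Function.fixedPoints f) = 0 := by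
    rw [Fintype.card_eq_zero_iff]
    refine ⟨fun t => ?_⟩
    have ht : y * t.1.1 * y⁻¹ = t.1.1 := congrArg Subtype.val t.2
    exact hfree t.1.1 t.1.2 (mul_inv_eq_iff_eq_mul.1 ht)
  rw [h3] at h2
  rw [Nat.card_eq_fintype_card]
  exact (Nat.modEq_zero_iff_dvd).1 h2

theorem four (hc : Nat.card G = 12) (h2 : so G 2 = 3) (h3 : so G 3 = 8) :
    Nonempty (G ≃* alternatingGroup (Fin 4)) := by
  have hord : ∀ g : G, orderOf g ∈ ({1, 2, 3} : Finset ℕ) := by
    apply orderOf_mem_of_total
    · rw [hc]; decide +kernel
    · rw [hc, Finset.sum_insert (by decide), Finset.sum_insert (by decide), Finset.sum_singleton,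
        so_one, h2, h3]
      norm_num
  refine Cfsg.Agent.S0228.result hc (fun z hz hzc => ?_)
  obtain ⟨y, hy⟩ := (so_pos_iff G 3).1 (by rw [h3]; norm_num)
  have hcomm : Commute z y := (Subgroup.mem_center_iff.1 hzc y).symm
  have h := hcomm.orderOf_mul_eq_mul_orderOf_of_coprime (by rw [hz, hy]; norm_num)
  rw [hz, hy] at h
  have h4 := hord (z * y)
  rw [h] at h4
  revert h4
  decide

theorem five (hc : Nat.card G = 60) (h2 : so G 2 = 15) (h3 : so G 3 = 20) (h5 : so G 5 = 24) :
    Nonempty (G ≃* alternatingGroup (Fin 5)) := by
  have hord : ∀ g : G, orderOf g ∈ ({1, 2, 3, 5} : Finset ℕ) := by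
    apply orderOf_mem_of_total
    · rw [hc]; decide +kernel
    · rw [hc, Finset.sum_insert (by decide), Finset.sum_insert (by decide),
        Finset.sum_insert (by decide), Finset.sum_singleton, so_one, h2, h3, h5]
      norm_num
  have hsimple : IsSimpleGroup G := by
    have : Nontrivial G := by
      rw [← Finite.one_lt_card_iff_nontrivial, hc]; norm_num
    refine ⟨fun N hN => ?_⟩
    have hmul : Nat.card N * N.index = 60 := by rw [Subgroup.card_mul_index, hc]
    have hdiv : N.index ∈ Nat.divisors 60 :=
      Nat.mem_divisors.2 ⟨⟨Nat.card N, by rw [mul_comm]; exact hmul.symm⟩, by norm_num⟩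
    have key : ∀ S : Finset ℕ, (∀ m ∈ S, Nat.Coprime m N.index) →
      ∑ m ∈ S, so G m ≤ Nat.card N := card_ge N
    have hd60 : Nat.divisors 60 = {1, 2, 3, 4, 5, 6, 10, 12, 15, 20, 30, 60} := by decide +kernel
    rw [hd60] at hdiv
    simp only [Finset.mem_insert, Finset.mem_singleton] at hdiv
    rcases hdiv with h | h | h | h | h | h | h | h | h | h | h | h
    · right; exact Subgroup.index_eq_one.1 h
    all_goals rw [h] at hmul key
    · have k := key {1, 3, 5} (by decide)
      rw [Finset.sum_insert (by decide), Finset.sum_insert (by decide), Finset.sum_singleton,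
        so_one, h3, h5] at k
      omega
    · have k := key {1, 2, 5} (by decide)
      rw [Finset.sum_insert (by decide), Finset.sum_insert (by decide), Finset.sum_singleton,
        so_one, h2, h5] at k
      omega
    · have k := key {1, 3, 5} (by decide)
      rw [Finset.sum_insert (by decide), Finset.sum_insert (by decide), Finset.sum_singleton,
        so_one, h3, h5] at k
      omega
    · have k := key {1, 2, 3} (by decide)
      rw [Finset.sum_insert (by decide), Finset.sum_insert (by decide), Finset.sum_singleton,
        so_one, h2, h3] at k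
      omega
    · have k := key {1, 5} (by decide)
      rw [Finset.sum_insert (by decide), Finset.sum_singleton, so_one, h5] at k
      omega
    · have k := key {1, 3} (by decide)
      rw [Finset.sum_insert (by decide), Finset.sum_singleton, so_one, h3] at k
      omega
    · have k := key {1, 5} (by decide)
      rw [Finset.sum_insert (by decide), Finset.sum_singleton, so_one, h5] at k
      omega
    · have k := key {1, 2} (by decide)
      rw [Finset.sum_insert (by decide), Finset.sum_singleton, so_one, h2] at k
      omega
    · have k := key {1, 3} (by decide)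
      rw [Finset.sum_insert (by decide), Finset.sum_singleton, so_one, h3] at k
      omega
    · exfalso
      have hN2 : Nat.card N = 2 := by omega
      obtain ⟨z, hz⟩ := (Nat.card_eq_two_iff' (1 : N)).1 hN2
      have hz1 : z.1 ≠ 1 := fun h => hz.1 (Subtype.ext h)
      have hcen : ∀ y : G, y * z.1 * y⁻¹ = z.1 := by
        intro y
        have h1 : (⟨y * z.1 * y⁻¹, hN.conj_mem z.1 z.2 y⟩ : N) = z :=
          hz.2 _ (fun h => hz1 (by
            have := congrArg Subtype.val h
            simpa using this))
        exact congrArg Subtype.val h1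
      obtain ⟨y, hy⟩ := (so_pos_iff G 3).1 (by rw [h3]; norm_num)
      have ho : orderOf z.1 = 2 := by
        have h1 : orderOf z.1 ∣ 2 := by
          rw [← hN2, Subgroup.orderOf_coe]
          exact orderOf_dvd_natCard z
        rcases (Nat.dvd_prime Nat.prime_two).1 h1 with h1 | h1
        · exact absurd (orderOf_eq_one_iff.1 h1) hz1
        · exact h1
      have hcomm : Commute z.1 y := by
        have h1 := hcen y
        exact (mul_inv_eq_iff_eq_mul.1 h1).symm
      have h4 := hcomm.orderOf_mul_eq_mul_orderOf_of_coprime (by rw [ho, hy]; norm_num)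
      rw [ho, hy] at h4
      have h5 := hord (z.1 * y)
      rw [h4] at h5
      revert h5
      decide
    · left
      have hN1 : Nat.card N = 1 := by omega
      exact Subgroup.eq_bot_of_card_eq N hN1
  exact Cfsg.Agent.S0494.result hc

/-- small normal subgroups on which an element of order 5 acts freely -/
theorem no_small (hord : ∀ g : G, orderOf g ∈ ({1, 2, 3, 4, 5} : Finset ℕ))
    (h5 : 0 < so G 5) (N : Subgroup G) [hN : N.Normal] (_ : Nat.card N ≠ 1)
    (hc : ¬ 5 ∣ Nat.card N) : 5 ∣ Nat.card N - 1 ∧
      ∀ q, q.Prime → q ∣ Nat.card N → 5 ∣ Nat.card {g : G | g ∈ N ∧ orderOf g = q} := by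
  have : Fact (Nat.Prime 5) := ⟨Nat.prime_five⟩
  obtain ⟨y, hy⟩ := (so_pos_iff G 5).1 h5
  have hfree : ∀ t ∈ N, t ≠ 1 → y * t ≠ t * y := by
    intro t ht ht1 hcomm
    have h5t : Nat.Coprime 5 (orderOf t) := by
      rw [Nat.Prime.coprime_iff_not_dvd Nat.prime_five]
      intro h
      apply hc
      have h2 : orderOf t ∣ Nat.card N := by
        have := orderOf_dvd_natCard (⟨t, ht⟩ : N)
        rwa [Subgroup.orderOf_mk] at this
      exact h.trans h2
    have h3 := (Commute.orderOf_mul_eq_mul_orderOf_of_coprime (x := y) (y := t) hcomm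
      (by rw [hy]; exact h5t))
    rw [hy] at h3
    have h4 := hord (y * t)
    have h6 : orderOf t ≠ 1 := fun h => ht1 (orderOf_eq_one_iff.1 h)
    have h7 : 0 < orderOf t := orderOf_pos t
    rw [h3] at h4
    simp only [Finset.mem_insert, Finset.mem_singleton] at h4
    omega
  have hy5 : y ^ 5 = 1 := by rw [← hy]; exact pow_orderOf_eq_one y
  constructor
  · have h2 := dvd_card_of_free hy5 {g : G | g ∈ N ∧ g ≠ 1}
      (fun t ht => ⟨hN.conj_mem t ht.1 y, fun h => ht.2 (by
        have h3 : y * t = y := by rw [mul_inv_eq_iff_eq_mul, one_mul] at h; exact h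
        exact mul_eq_left.1 h3)⟩)
      (fun t ht => hfree t ht.1 ht.2)
    have h3 : Nat.card {g : G | g ∈ N ∧ g ≠ 1} = Nat.card N - 1 := by
      have h4 : {g : G | g ∈ N ∧ g ≠ 1} = (N : Set G) \ {1} := by
        ext g; simp
      have h5 : Nat.card N = (N : Set G).ncard := rfl
      rw [Nat.card_coe_set_eq, h4, h5]
      exact Set.ncard_sdiff_singleton_of_mem N.one_mem
    rwa [h3] at h2
  · intro q hq _
    exact dvd_card_of_free hy5 {g : G | g ∈ N ∧ orderOf g = q}
      (fun t ht => ⟨hN.conj_mem t ht.1 y, by
        have h3 : y * t * y⁻¹ = MulAut.conj y t := rfl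
        rw [h3, MulEquiv.orderOf_eq]; exact ht.2⟩)
      (fun t ht => hfree t ht.1 (fun h => by
        rw [h] at ht
        exact hq.one_lt.ne (orderOf_one (G := G) ▸ ht.2)))

theorem six (hc : Nat.card G = 360) (h2 : so G 2 = 45) (h3 : so G 3 = 80) (h4 : so G 4 = 90)
    (h5 : so G 5 = 144) : Nonempty (G ≃* alternatingGroup (Fin 6)) := by
  have hord : ∀ g : G, orderOf g ∈ ({1, 2, 3, 4, 5} : Finset ℕ) := by
    apply orderOf_mem_of_total
    · rw [hc]; decide +kernel
    · rw [hc, Finset.sum_insert (by decide), Finset.sum_insert (by decide),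
        Finset.sum_insert (by decide), Finset.sum_insert (by decide), Finset.sum_singleton,
        so_one, h2, h3, h4, h5]
      norm_num
  have hsimple : IsSimpleGroup G := by
    have : Nontrivial G := by
      rw [← Finite.one_lt_card_iff_nontrivial, hc]; norm_num
    refine ⟨fun N hN => ?_⟩
    have hmul : Nat.card N * N.index = 360 := by rw [Subgroup.card_mul_index, hc]
    have hdiv : N.index ∈ Nat.divisors 360 :=
      Nat.mem_divisors.2 ⟨⟨Nat.card N, by rw [mul_comm]; exact hmul.symm⟩, by norm_num⟩
    have key : ∀ S : Finset ℕ, (∀ m ∈ S, Nat.Coprime m N.index) →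
      ∑ m ∈ S, so G m ≤ Nat.card N := card_ge N
    have k2 : Nat.Coprime 2 N.index → 136 ≤ Nat.card N := by
      intro h
      have k := key {1, 2, 4} (by
        intro m hm
        simp only [Finset.mem_insert, Finset.mem_singleton] at hm
        rcases hm with rfl | rfl | rfl
        · exact Nat.coprime_one_left _
        · exact h
        · exact Nat.Coprime.pow_left 2 h)
      rw [Finset.sum_insert (by decide), Finset.sum_insert (by decide), Finset.sum_singleton,
        so_one, h2, h4] at k
      omega
    have k3 : Nat.Coprime 3 N.index → 81 ≤ Nat.card N := by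
      intro h
      have k := key {1, 3} (by
        intro m hm
        simp only [Finset.mem_insert, Finset.mem_singleton] at hm
        rcases hm with rfl | rfl
        · exact Nat.coprime_one_left _
        · exact h)
      rw [Finset.sum_insert (by decide), Finset.sum_singleton, so_one, h3] at k
      omega
    have k5 : Nat.Coprime 5 N.index → 145 ≤ Nat.card N := by
      intro h
      have k := key {1, 5} (by
        intro m hm
        simp only [Finset.mem_insert, Finset.mem_singleton] at hm
        rcases hm with rfl | rfl
        · exact Nat.coprime_one_left _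
        · exact h)
      rw [Finset.sum_insert (by decide), Finset.sum_singleton, so_one, h5] at k
      omega
    have k35 : Nat.Coprime 3 N.index → Nat.Coprime 5 N.index → 225 ≤ Nat.card N := by
      intro h h'
      have k := key {1, 3, 5} (by
        intro m hm
        simp only [Finset.mem_insert, Finset.mem_singleton] at hm
        rcases hm with rfl | rfl | rfl
        · exact Nat.coprime_one_left _
        · exact h
        · exact h')
      rw [Finset.sum_insert (by decide), Finset.sum_insert (by decide), Finset.sum_singleton,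
        so_one, h3, h5] at k
      omega
    have hd : Nat.divisors 360 = {1, 2, 3, 4, 5, 6, 8, 9, 10, 12, 15, 18, 20, 24, 30, 36, 40, 45,
        60, 72, 90, 120, 180, 360} := by decide +kernel
    rw [hd] at hdiv
    simp only [Finset.mem_insert, Finset.mem_singleton] at hdiv
    rcases hdiv with h | h | h | h | h | h | h | h | h | h | h | h | h | h | h | h | h | h | h |
      h | h | h | h | h
    · right; exact Subgroup.index_eq_one.1 h
    -- 2
    · rw [h] at hmul k35; have := k35 (by norm_num) (by norm_num); omega
    -- 3
    · rw [h] at hmul k2; have := k2 (by norm_num); omega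
    -- 4
    · rw [h] at hmul k35; have := k35 (by norm_num) (by norm_num); omega
    -- 5
    · rw [h] at hmul k2; have := k2 (by norm_num); omega
    -- 6
    · rw [h] at hmul k5; have := k5 (by norm_num); omega
    -- 8
    · rw [h] at hmul k5; have := k5 (by norm_num); omega
    -- 9
    · rw [h] at hmul k5; have := k5 (by norm_num); omega
    -- 10
    · rw [h] at hmul k3; have := k3 (by norm_num); omega
    -- 12
    · rw [h] at hmul k5; have := k5 (by norm_num); omega
    -- 15
    · rw [h] at hmul k2; have := k2 (by norm_num); omega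
    -- 18
    · rw [h] at hmul k5; have := k5 (by norm_num); omega
    -- 20
    · rw [h] at hmul k3; have := k3 (by norm_num); omega
    -- 24
    · rw [h] at hmul k5; have := k5 (by norm_num); omega
    -- 30
    · exfalso
      rw [h] at hmul
      have hN' : Nat.card N = 12 := by omega
      have h6 := (no_small hord (by rw [h5]; norm_num) N (by omega) (by rw [hN']; norm_num)).1
      rw [hN'] at h6
      revert h6; decide
    -- 36
    · rw [h] at hmul k5; have := k5 (by norm_num); omega
    -- 40
    · rw [h] at hmul k3; have := k3 (by norm_num); omega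
    -- 45
    · rw [h] at hmul k2; have := k2 (by norm_num); omega
    -- 60
    · exfalso
      rw [h] at hmul
      have hN' : Nat.card N = 6 := by omega
      have h6 := (no_small hord (by rw [h5]; norm_num) N (by omega) (by rw [hN']; norm_num)).2
      have hle : ∀ q, q.Prime → q ∣ 6 → 5 ≤ Nat.card {g : G | g ∈ N ∧ orderOf g = q} := by
        intro q hq hq6
        have : Fact q.Prime := ⟨hq⟩
        apply Nat.le_of_dvd _ (h6 q hq (by rw [hN']; exact hq6))
        obtain ⟨x, hx⟩ := exists_prime_orderOf_dvd_card' (G := N) q (by rw [hN']; exact hq6)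
        rw [Nat.card_pos_iff]
        exact ⟨⟨⟨x.1, x.2, by rw [Subgroup.orderOf_coe, hx]⟩⟩, inferInstance⟩
      have e2 := hle 2 Nat.prime_two (by norm_num)
      have e3 := hle 3 Nat.prime_three (by norm_num)
      have hdisj : Disjoint {g : G | g ∈ N ∧ orderOf g = 2} {g : G | g ∈ N ∧ orderOf g = 3} := by
        rw [Set.disjoint_left]
        rintro g ⟨_, hg⟩ ⟨_, hg'⟩
        omega
      have hun : ({g : G | g ∈ N ∧ orderOf g = 2} ∪ {g : G | g ∈ N ∧ orderOf g = 3}).ncard ≤
          (N : Set G).ncard := by
        apply Set.ncard_le_ncard _ (Set.toFinite _)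
        rintro g (hg | hg)
        · exact hg.1
        · exact hg.1
      rw [Set.ncard_union_eq hdisj (Set.toFinite _) (Set.toFinite _)] at hun
      have h7 : Nat.card N = (N : Set G).ncard := rfl
      rw [Nat.card_coe_set_eq] at e2 e3
      omega
    -- 72
    · rw [h] at hmul k5; have := k5 (by norm_num); omega
    -- 90
    · exfalso
      rw [h] at hmul
      have hN' : Nat.card N = 4 := by omega
      have h6 := (no_small hord (by rw [h5]; norm_num) N (by omega) (by rw [hN']; norm_num)).1
      rw [hN'] at h6
      revert h6; decide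
    -- 120
    · exfalso
      rw [h] at hmul
      have hN' : Nat.card N = 3 := by omega
      have h6 := (no_small hord (by rw [h5]; norm_num) N (by omega) (by rw [hN']; norm_num)).1
      rw [hN'] at h6
      revert h6; decide
    -- 180
    · exfalso
      rw [h] at hmul
      have hN' : Nat.card N = 2 := by omega
      have h6 := (no_small hord (by rw [h5]; norm_num) N (by omega) (by rw [hN']; norm_num)).1
      rw [hN'] at h6
      revert h6; decide
    -- 360
    · left
      rw [h] at hmul
      exact Subgroup.eq_bot_of_card_eq N (by omega)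
  exact Cfsg.Agent.S0497.result hc

end

end Cfsg.Agent.H426.Nse
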