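import Mathlib
import Cfsg.Agent.H426.Unrec
import Cfsg.Agent.H426.SL2Orders

/-!
# `SL(2, 2^n)` and `PSL(2, 2^n)` have unboundedly many groups with their prime graph
-/

set_option autoImplicit false

namespace Cfsg.Agent.H426

open Matrix

/-- the natural action of `SL(2, F)` on `F ^ 2` -/
@[reducible] noncomputable def sl2NatAct (F : Type*) [Field F] :
    DistribMulAction (Matrix.SpecialLinearGroup (Fin 2) F) (Fin 2 → F) where
  smul g v := (g : Matrix (Fin 2) (Fin 2) F).mulVec v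
  one_smul v := by
    change ((1 : Matrix.SpecialLinearGroup (Fin 2) F) : Matrix (Fin 2) (Fin 2) F).mulVec v = v
    rw [Matrix.SpecialLinearGroup.coe_one, Matrix.one_mulVec]
  mul_smul g h v := by
    change ((g * h : Matrix.SpecialLinearGroup (Fin 2) F) : Matrix (Fin 2) (Fin 2) F).mulVec v
      = (g : Matrix (Fin 2) (Fin 2) F).mulVec ((h : Matrix (Fin 2) (Fin 2) F).mulVec v)
    rw [Matrix.SpecialLinearGroup.coe_mul, Matrix.mulVec_mulVec]
  smul_zero g := Matrix.mulVec_zero _
  smul_add g v w := Matrix.mulVec_add _ v w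

theorem two_dvd_card_sl2 {F : Type*} [Field F] [Finite F] [CharP F 2] :
    2 ∣ Nat.card (Matrix.SpecialLinearGroup (Fin 2) F) := by
  let u : Matrix.SpecialLinearGroup (Fin 2) F := ⟨!![1, 1; 0, 1], by simp [det_fin_two]⟩
  have hu : u ≠ 1 := by
    intro h
    have h1 : (u : Matrix (Fin 2) (Fin 2) F) 0 1
      = ((1 : Matrix.SpecialLinearGroup (Fin 2) F) : Matrix (Fin 2) (Fin 2) F) 0 1 := by rw [h]
    rw [Matrix.SpecialLinearGroup.coe_one] at h1
    have h2 : (1 : F) = 0 := by simpa [u] using h1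
    exact one_ne_zero h2
  have h2 : u ^ 2 = 1 := by
    apply sl2_pow_eq_one
    change (!![1, 1; 0, 1] : Matrix (Fin 2) (Fin 2) F) ^ 2 = 1
    rw [pow_two]
    ext i j
    fin_cases i <;> fin_cases j <;> simp [Matrix.mul_apply, Fin.sum_univ_two, CharTwo.add_self_eq_zero]
  have h3 : orderOf u = 2 := orderOf_eq_prime h2 hu
  have h4 := orderOf_dvd_natCard u
  rw [h3] at h4
  exact h4

/-- **`SL(2, 2^n)`**: groups of unbounded order with the same prime graph. -/
theorem exists_large_sl2_even (F : Type*) [Field F] [Finite F] [CharP F 2] (N : ℕ) :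
    ∃ (H : Type) (_ : Group H) (_ : Finite H), N < Nat.card H ∧
      ((∀ q : ℕ, q.Prime →
        (q ∣ Nat.card (Matrix.SpecialLinearGroup (Fin 2) F) ↔ q ∣ Nat.card H)) ∧
      (∀ q r : ℕ, q.Prime → r.Prime → q ≠ r →
        ((∃ g : Matrix.SpecialLinearGroup (Fin 2) F, orderOf g = q * r) ↔
          (∃ g : H, orderOf g = q * r)))) := by
  let _ := sl2NatAct F
  refine exists_large_same_primeGraph (G := Matrix.SpecialLinearGroup (Fin 2) F)
    (V := Fin 2 → F) Nat.prime_two ?_ two_dvd_card_sl2 ?_ N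
  · intro v
    funext i
    rw [two_nsmul, Pi.add_apply, CharTwo.add_self_eq_zero]
    rfl
  · intro r hr hr2 g v hg hv hgv
    exfalso
    have h1 : g ^ 2 = 1 := sl2_pow_char_of_fixed 2 g v hv hgv
    have h2 : r ∣ 2 := by
      rw [← hg]
      exact orderOf_dvd_of_pow_eq_one h1
    exact hr2 ((Nat.prime_dvd_prime_iff_eq hr Nat.prime_two).1 h2)

theorem center_sl2_even {F : Type*} [Field F] [CharP F 2] :
    Subgroup.center (Matrix.SpecialLinearGroup (Fin 2) F) = ⊥ := by
  rw [eq_bot_iff]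
  intro M hM
  rw [Matrix.SpecialLinearGroup.mem_center_iff] at hM
  obtain ⟨r, hr, hrM⟩ := hM
  rw [Subgroup.mem_bot]
  rw [Fintype.card_fin] at hr
  have h1 : (r - 1) ^ 2 = 0 := by
    have : (r - 1) ^ 2 = r ^ 2 + 1 - 2 * r := by ring
    rw [this, hr]
    have h2 : (2 : F) = 0 := CharTwo.two_eq_zero
    rw [show (1 : F) + 1 = 2 by norm_num, h2]
    ring
  have h3 : r = 1 := by
    have := pow_eq_zero_iff (two_ne_zero) |>.1 h1
    exact sub_eq_zero.1 this
  apply sl2_ext'
  rw [← hrM, h3, Matrix.SpecialLinearGroup.coe_one]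
  simp

/-- in characteristic 2, `PSL(2, F) ≃* SL(2, F)` -/
noncomputable def psl2EvenEquiv (F : Type*) [Field F] [CharP F 2] :
    Matrix.ProjectiveSpecialLinearGroup (Fin 2) F ≃* Matrix.SpecialLinearGroup (Fin 2) F :=
  (QuotientGroup.quotientMulEquivOfEq (center_sl2_even (F := F))).trans
    QuotientGroup.quotientBot

/-- **`PSL(2, 2^n)`**: groups of unbounded order with the same prime graph. -/
theorem exists_large_psl2_even (F : Type*) [Field F] [Finite F] [CharP F 2] (N : ℕ) :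
    ∃ (H : Type) (_ : Group H) (_ : Finite H), N < Nat.card H ∧
      ((∀ q : ℕ, q.Prime →
        (q ∣ Nat.card (Matrix.ProjectiveSpecialLinearGroup (Fin 2) F) ↔ q ∣ Nat.card H)) ∧
      (∀ q r : ℕ, q.Prime → r.Prime → q ≠ r →
        ((∃ g : Matrix.ProjectiveSpecialLinearGroup (Fin 2) F, orderOf g = q * r) ↔
          (∃ g : H, orderOf g = q * r)))) := by
  obtain ⟨H, i1, i2, h1, h2, h3⟩ := exists_large_sl2_even F N
  refine ⟨H, i1, i2, h1, ?_, ?_⟩
  · intro q hq
    rw [Nat.card_congr (psl2EvenEquiv F).toEquiv]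
    exact h2 q hq
  · intro q r hq hr hqr
    rw [← h3 q r hq hr hqr]
    constructor
    · rintro ⟨g, hg⟩
      exact ⟨psl2EvenEquiv F g, by rw [MulEquiv.orderOf_eq, hg]⟩
    · rintro ⟨g, hg⟩
      exact ⟨(psl2EvenEquiv F).symm g, by rw [MulEquiv.orderOf_eq, hg]⟩

/-- `PSL(2, 7)` has no element of order a product of two distinct primes -/
theorem psl2_seven_orders {F : Type*} [Field F] [Fintype F] (hF : Fintype.card F = 7)
    (x : Matrix.ProjectiveSpecialLinearGroup (Fin 2) F) : x ^ 3 = 1 ∨ x ^ 4 = 1 ∨ x ^ 7 = 1 := by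
  have : Fact (Nat.Prime 7) := ⟨by norm_num⟩
  have : CharP F 7 := by
    obtain ⟨n, hp, hn⟩ := FiniteField.card F (ringChar F)
    rw [hF] at hn
    have h1 : ringChar F ∣ 7 := by rw [hn]; exact dvd_pow_self _ n.ne_zero
    have h2 : ringChar F = 7 := (Nat.prime_dvd_prime_iff_eq hp (by norm_num)).1 h1
    rw [← h2]
    exact ringChar.charP F
  have h20 : (2 : F) ≠ 0 := by
    intro h
    have h1 : ((2 : ℕ) : F) = 0 := by exact_mod_cast h
    rw [CharP.cast_eq_zero_iff F 7] at h1
    norm_num at h1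
  induction x using QuotientGroup.induction_on with
  | H M =>
    have key : ∀ k : ℕ, M ^ (2 * k) = 1 →
        (QuotientGroup.mk M : Matrix.ProjectiveSpecialLinearGroup (Fin 2) F) ^ k = 1 := by
      intro k hk
      have h1 : (M ^ k) ^ 2 = 1 := by rw [← pow_mul, mul_comm, hk]
      have h2 := sl2_sq_eq_one_mem_center h20 _ h1
      have h3 : (QuotientGroup.mk (M ^ k) : Matrix.ProjectiveSpecialLinearGroup (Fin 2) F) = 1 :=
        (QuotientGroup.eq_one_iff _).2 h2
      rw [← h3]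
      rfl
    rcases sl2_pow_cases 7 M with h | h | h
    · rw [hF] at h
      exact Or.inl (key 3 h)
    · rw [hF] at h
      exact Or.inr (Or.inl (key 4 h))
    · exact Or.inr (Or.inr (key 7 h))

theorem sl2_eight_orders {F : Type*} [Field F] [Fintype F] [CharP F 2] (hF : Fintype.card F = 8)
    (x : Matrix.SpecialLinearGroup (Fin 2) F) : x ^ 7 = 1 ∨ x ^ 9 = 1 ∨ x ^ 4 = 1 := by
  rcases sl2_pow_cases 2 x with h | h | h
  · rw [hF] at h; exact Or.inl h
  · rw [hF] at h; exact Or.inr (Or.inl h)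
  · exact Or.inr (Or.inr h)

theorem not_orderOf_of_pow {G : Type*} [Group G] {x : G} {q r : ℕ} (hq : q.Prime) (hr : r.Prime)
    (hqr : q ≠ r) (hx : orderOf x = q * r) {s k : ℕ} (hs : s.Prime) (h : x ^ (s ^ k) = 1) :
    False := by
  have h1 : q * r ∣ s ^ k := by
    rw [← hx]
    exact orderOf_dvd_of_pow_eq_one h
  have h2 : q = s := (Nat.prime_dvd_prime_iff_eq hq hs).1
    (hq.dvd_of_dvd_pow ((Dvd.intro r rfl).trans h1))
  have h3 : r = s := (Nat.prime_dvd_prime_iff_eq hr hs).1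
    (hr.dvd_of_dvd_pow ((Dvd.intro_left q rfl).trans h1))
  exact hqr (h2.trans h3.symm)

end Cfsg.Agent.H426
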